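import Cfsg.Agent.H129.WData
import Cfsg.Agent.H129.UntwData
import Cfsg.Agent.S1092
set_option linter.all false

-- part: H161/DataCox
section
/-!
# Data of the Coxeter torus of type G2 (helper161; the pattern is helper129's)
-/

set_option autoImplicit false

namespace Cfsg.Agent.H161.DataCox

open Cfsg.Agent.H129.TorusTw Cfsg.Agent.H129.WData Cfsg.Agent.ChevalleyStructure.CoxeterGeomTypes
open Cfsg.Lie Cfsg.Lie.ChevalleyDatum

/-- the Cartan matrix -/
def Am : Mat 2 := ![![2, -3],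
    ![-1, 2]]

/-- the partial products -/
def chain : List (Fin 2 × Mat 2) := [
    (0, ![![2, 1],
      ![-3, -1]]),
    (1, ![![1, 1],
      ![0, -1]])]

/-- the matrix of `θ` -/
def Th : Mat 2 := ![![2, 1],
    ![-3, -1]]

/-- the basis -/
def V : Mat 2 := ![![1, 0],
    ![2, 1]]

/-- the coordinates -/
def B : Mat 2 := ![![1, 0],
    ![-2, 1]]

/-- the polynomial -/
def c : Fin 2 → ℤ := ![1, -1]

/-- the representatives of the orbits of `θ` on the roots -/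
def R : Fin 2 → Fin 2 → ℤ := ![![1, 0],
    ![0, 1]]

/-- predecessor -/
def prv (r : ℕ) : ℕ := [1, 6, 4, 2, 8, 0, 0, 0, 9, 7, 5, 10].getD r 0

/-- depth -/
def dep (r : ℕ) : ℕ := [2, 1, 4, 5, 3, 3, 0, 0, 2, 1, 4, 5].getD r 0

theorem hA : ∀ i j, Am i j = cartanOf chevG2 2 i j := by decide +kernel

theorem chainOK : ChainOK Am chain := by decide +kernel

theorem cycOK : CycOK 2 (hd chain) V B c := by decide +kernel

theorem rootOK : RootOK chevG2 2 (hd chain) R prv dep := by decide +kernel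

theorem fN_eq (x : ℤ) : fN c x = 1 - x + x ^ 2 := by
  unfold fN c
  simp [Fin.sum_univ_succ]
  ring

theorem G_0 (x : ℤ) : Gq B x (R 0) = 1 := by
  rw [Gq_coef B x (R 0) ![1, 0] (by decide)]
  simp [Fin.sum_univ_succ]

theorem G_1 (x : ℤ) : Gq B x (R 1) = x - 2 := by
  rw [Gq_coef B x (R 1) ![-2, 1] (by decide)]
  simp [Fin.sum_univ_succ]
  ring

/-- Common divisors of `f(x)` and the value of `Gq` on a representative. -/
theorem dvd_of_G {x r : ℤ} (h : r ∣ 1 - x + x ^ 2) (s : Fin 2) (hs : r ∣ Gq B x (R s)) :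
    r ∣ 1 ∨ r ∣ 3 := by
  fin_cases s
  · left
    rw [← G_0 x]; exact hs
  · right
    have h1 : r ∣ x - 2 := by rw [← G_1 x]; exact hs
    have h2 : (3 : ℤ) = (1 - x + x ^ 2) - (x + 1) * (x - 2) := by ring
    rw [h2]
    exact dvd_sub h (Dvd.dvd.mul_left h1 _)

end Cfsg.Agent.H161.DataCox
end

-- part: H161/CoxTorus
section
/-!
# `G₂(q)`, `q ≥ 3`, contains a self-centralizing cyclic subgroup of order `q² - q + 1` (helper161)
-/

set_option autoImplicit false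

namespace Cfsg.Agent.H161.CoxTorus

/-- The group `G₂(q)`, `q ≥ 3`, contains a cyclic subgroup of order `q² - q + 1` which is its own
centralizer. -/
theorem exists_cyclic {F : Type*} [Field F] [Fintype F] (q : ℕ) (hF : Fintype.card F = q)
    (hq : 3 ≤ q) :
    ∃ H : Subgroup ↥(Cfsg.Lie.chevG2.group F), IsCyclic ↥H ∧ Nat.card ↥H = q ^ 2 - q + 1 ∧
      Subgroup.centralizer (H : Set ↥(Cfsg.Lie.chevG2.group F)) = H := by
  have hp : Cfsg.Agent.Nodes.RGDChev.IsType Cfsg.Lie.chevG2 2 CoxeterMatrix.G₂ := by simp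
  have hW : Nat.card CoxeterMatrix.G₂.Group = 12 :=
    Cfsg.Agent.S1092.result (⟨2, CoxeterMatrix.G₂⟩, 12) (by simp)
  have : Finite CoxeterMatrix.G₂.Group := Nat.finite_of_card_ne_zero (by rw [hW]; norm_num)
  have hle : q ≤ q ^ 2 := by nlinarith
  -- remainders
  have hmod : ∀ n : ℕ, 0 < n → (∀ k < n, ¬ (n : ℤ) ∣ (k : ℤ) ^ 2 - k + 1) → ¬ n ∣ q ^ 2 - q + 1 := by
    intro n hn hk hd
    apply hk (q % n) (Nat.mod_lt _ hn)
    have h1 : (n : ℤ) ∣ (q : ℤ) ^ 2 - q + 1 := by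
      have := Int.natCast_dvd_natCast.2 hd
      push_cast [Nat.cast_sub hle] at this
      exact this
    have h2 : (n : ℤ) ∣ (q : ℤ) - ((q % n : ℕ) : ℤ) := by
      refine ⟨((q / n : ℕ) : ℤ), ?_⟩
      have := Nat.div_add_mod q n
      have h3 : ((n * (q / n) + q % n : ℕ) : ℤ) = q := by rw [this]
      push_cast at h3 ⊢
      linarith
    have h4 : ((q % n : ℕ) : ℤ) ^ 2 - ((q % n : ℕ) : ℤ) + 1 = ((q : ℤ) ^ 2 - q + 1) -
        ((q : ℤ) - ((q % n : ℕ) : ℤ)) * ((q : ℤ) + ((q % n : ℕ) : ℤ) - 1) := by ring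
    rw [h4]
    exact dvd_sub h1 (Dvd.dvd.mul_right h2 _)
  have hbig : 7 ≤ q ^ 2 - q + 1 := by
    have : q * 3 ≤ q * q := Nat.mul_le_mul_left q hq
    have h2 : q ^ 2 = q * q := sq q
    omega
  -- a prime divisor different from 3
  have hex : ∃ r : ℕ, r.Prime ∧ r ∣ q ^ 2 - q + 1 ∧ r ≠ 3 := by
    by_contra hcon
    push Not at hcon
    have h0 : q ^ 2 - q + 1 ≠ 0 := by omega
    have h1 : ∀ r : ℕ, r.Prime → r ∣ q ^ 2 - q + 1 → r = 3 := hcon
    have h2 := Nat.eq_prime_pow_of_unique_prime_dvd h0 (fun {d} hd hd' => h1 d hd hd')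
    have h4 : 2 ≤ (q ^ 2 - q + 1).primeFactorsList.length := by
      by_contra h5
      have h6 : (q ^ 2 - q + 1).primeFactorsList.length ≤ 1 := by omega
      have h7 : 3 ^ (q ^ 2 - q + 1).primeFactorsList.length ≤ 3 ^ 1 :=
        Nat.pow_le_pow_right (by norm_num) h6
      omega
    have h5 : 9 ∣ q ^ 2 - q + 1 := by
      rw [h2]
      exact pow_dvd_pow 3 h4
    refine hmod 9 (by norm_num) ?_ h5
    intro k hk
    interval_cases k <;> norm_num
  obtain ⟨r, hr, hrN, hr3⟩ := hex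
  have hN : ((q ^ 2 - q + 1 : ℕ) : ℤ) = 1 - (q : ℤ) + (q : ℤ) ^ 2 := by
    push_cast [Nat.cast_sub hle]; ring
  have hrq : (r : ℤ) ∣ 1 - (q : ℤ) + (q : ℤ) ^ 2 := by
    rw [← hN]; exact Int.natCast_dvd_natCast.2 hrN
  refine Cfsg.Agent.H129.UntwData.untw_data hp CoxeterMatrix.G₂.toCoxeterSystem (by norm_num) hF
    Cfsg.Agent.H129.TorusChar.invC_G2 one_ne_zero (fun a => ⟨a, pow_one a⟩) Cfsg.Agent.H161.DataCox.hA
    Cfsg.Agent.H161.DataCox.chainOK Cfsg.Agent.H161.DataCox.cycOK Cfsg.Agent.H161.DataCox.rootOK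
    (N := q ^ 2 - q + 1) (r := r) ?_ ?_ hr ?_ hrN ?_
  · rw [Cfsg.Agent.H161.DataCox.fN_eq, hN]
  · exact Cfsg.Agent.H129.UntwData.coprime_of_eq (a := (q : ℤ) - 1) (by rw [hN]; ring)
  · rw [hW]
    intro h
    have h2 : (12 : ℕ) = 2 ^ 2 * 3 := by norm_num
    rw [h2] at h
    rcases (Nat.Prime.dvd_mul hr).1 h with h | h
    · have h3 := (Nat.prime_dvd_prime_iff_eq hr Nat.prime_two).1 (hr.dvd_of_dvd_pow h)
      subst h3
      refine hmod 2 (by norm_num) ?_ hrN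
      intro k hk
      interval_cases k <;> norm_num
    · exact hr3 ((Nat.prime_dvd_prime_iff_eq hr Nat.prime_three).1 h)
  · intro s hs
    rcases Cfsg.Agent.H161.DataCox.dvd_of_G hrq s hs with h1 | h1
    · exact hr.one_lt.ne' (Nat.dvd_one.1 (by exact_mod_cast h1))
    · exact hr3 ((Nat.prime_dvd_prime_iff_eq hr Nat.prime_three).1 (by exact_mod_cast h1))

/-- an element of order `q² - q + 1` -/
theorem exists_orderOf {F : Type*} [Field F] [Fintype F] (q : ℕ) (hF : Fintype.card F = q)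
    (hq : 3 ≤ q) : ∃ g : ↥(Cfsg.Lie.chevG2.group F), orderOf g = q ^ 2 - q + 1 := by
  obtain ⟨H, hc, hcard, -⟩ := exists_cyclic q hF hq
  obtain ⟨g, hg⟩ := hc.exists_generator
  refine ⟨g, ?_⟩
  rw [← hcard, Subgroup.orderOf_coe, orderOf_eq_card_of_forall_mem_zpowers hg]

end Cfsg.Agent.H161.CoxTorus
end
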