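import Cfsg.Agent.H769.SpSix
import Cfsg.Agent.H413.JOneLocal
import Cfsg.Agent.SporRec.J1.CentFacts
import Cfsg.Agent.LieRecognition.ReeFinal
import Cfsg.Agent.Prune
set_option linter.all false
prune_inst 0x7f00000000000000000000000000000000000000000000000000000000000000000000000000000000000000000000000000000000000000000000000000000000000000000000000000000000000000003fffffffffffffffffffffffffffbeffbdffffffff
open scoped Cfsg.Agent.FastGrp

/-!
# S5161: the rows of the Ree groups and of J1 (abelian Sylow 2-subgroups)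
-/

set_option autoImplicit false

namespace Cfsg.Agent.H161.RowReeJ1

open Subgroup Cfsg.Agent.H747

theorem zmod2_sq : ∀ a : Multiplicative (ZMod 2), a * a = 1 := by decide

theorem j1_sq (T : Sylow 2 Cfsg.Spor.J1) : ∀ x ∈ T, x * x = 1 := by
  have hfin : Finite Cfsg.Spor.J1 := Nat.finite_of_card_ne_zero (by rw [H413.JOneLocal.card_J1]; norm_num)
  have fact2 : Fact (Nat.Prime 2) := ⟨Nat.prime_two⟩
  have hd : 2 ∣ Nat.card (T : Subgroup Cfsg.Spor.J1) := T.dvd_card_of_dvd_card (by rw [H413.JOneLocal.card_J1]; norm_num)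
  have hnt : Nontrivial (T : Subgroup Cfsg.Spor.J1) := by
    rw [← Finite.one_lt_card_iff_nontrivial]
    exact lt_of_lt_of_le one_lt_two (Nat.le_of_dvd Nat.card_pos hd)
  have hc := T.isPGroup'.center_nontrivial
  have hcp : IsPGroup 2 (center (T : Subgroup Cfsg.Spor.J1)) := T.isPGroup'.to_subgroup _
  obtain ⟨k, hk0, hk⟩ := (IsPGroup.nontrivial_iff_card hcp).1 hc
  have h2 : 2 ∣ Nat.card (center (T : Subgroup Cfsg.Spor.J1)) := by
    rw [hk]; exact dvd_pow_self 2 hk0.ne'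
  obtain ⟨z, hz⟩ := exists_prime_orderOf_dvd_card' 2 h2
  have hz2 : orderOf ((z : (T : Subgroup Cfsg.Spor.J1)) : Cfsg.Spor.J1) = 2 := by
    rw [Subgroup.orderOf_coe, Subgroup.orderOf_coe, hz]
  obtain ⟨e⟩ := H413.JOneLocal.isLocal.cent _ hz2
  intro x hx
  have hxc : x ∈ centralizer ({((z : (T : Subgroup Cfsg.Spor.J1)) : Cfsg.Spor.J1)} : Set Cfsg.Spor.J1) := by
    rw [mem_centralizer_singleton_iff]
    have := mem_center_iff.1 z.2 ⟨x, hx⟩
    exact congrArg Subtype.val this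
  obtain ⟨n, hn⟩ := T.isPGroup' ⟨x, hx⟩
  have hn' : x ^ 2 ^ n = 1 := congrArg Subtype.val hn
  obtain ⟨y, hy⟩ : ∃ y, y = e ⟨x, hxc⟩ := ⟨_, rfl⟩
  have hyn : y ^ 2 ^ n = 1 := by
    rw [hy, ← map_pow]
    have : (⟨x, hxc⟩ : centralizer ({((z : (T : Subgroup Cfsg.Spor.J1)) : Cfsg.Spor.J1)} : Set Cfsg.Spor.J1)) ^ 2 ^ n = 1 :=
      Subtype.ext hn'
    rw [this, map_one]
  have h1 : y.1 * y.1 = 1 := zmod2_sq _
  have hodd : ∀ j : ℕ, Odd j → y.2 ^ j = 1 → y.2 = 1 := by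
    intro j hj h3
    have h4 : y.2 ^ 2 ^ n = 1 := congrArg Prod.snd hyn
    have h5 := Nat.dvd_gcd (orderOf_dvd_of_pow_eq_one h4) (orderOf_dvd_of_pow_eq_one h3)
    rw [Nat.Coprime.gcd_eq_one (Nat.Coprime.pow_left _ (Nat.coprime_two_left.2 hj)), Nat.dvd_one,
      orderOf_eq_one_iff] at h5
    exact h5
  have h2 : y.2 * y.2 = 1 := by
    rcases SporRec.J1.CentFacts.A5_pow y.2 with h3 | h3 | h3
    · rw [← pow_two, h3]
    · rw [hodd 3 (by decide) h3, one_mul]
    · rw [hodd 5 (by decide) h3, one_mul]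
  have h3 : y * y = 1 := Prod.ext h1 h2
  rw [hy, ← map_mul, MulEquiv.map_eq_one_iff] at h3
  exact congrArg Subtype.val h3

end Cfsg.Agent.H161.RowReeJ1
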