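import Cfsg.Agent.H161.G2Emb
import Cfsg.Agent.H161.G2Elems
set_option linter.all false

/-!
# Octonion automorphisms of order three which fix a vector of square zero (helper161)
-/

set_option autoImplicit false
set_option linter.unusedSimpArgs false

namespace Cfsg.Agent.H161.Oct

open Cfsg.Lie Module

variable {K : Type*} [Field K]

/-- A fixed vector of square zero gives a fixed idempotent. -/
theorem exists_idem_of_sq {s : V K ≃ₗ[K] V K} (hs : s ∈ AutO K) {m : ℕ}
    (hm : (m : K) ≠ 0) (hsm : s ^ m = 1) {x : V K} (hx0 : x ≠ 0) (hxx : zornMul x x = 0)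
    (hx : s x = x) : ∃ e : V K, s e = e ∧ tr e = 1 ∧ nm e = 0 := by
  have htr : tr x = 0 ∧ nm x = 0 := by
    have h1 := sq_eq x
    rw [hxx] at h1
    by_cases ht : tr x = 0
    · rw [ht, zero_smul, zero_sub] at h1
      have h2 := congrFun h1 0
      simp only [Pi.zero_apply, Pi.neg_apply, Pi.smul_apply, o0, smul_eq_mul, mul_one] at h2
      exact ⟨ht, by linear_combination h2⟩
    · exfalso
      have h2 : x = (nm x / tr x) • o := by
        have h3 : tr x • x = nm x • o := (sub_eq_zero.1 h1.symm)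
        calc x = (tr x)⁻¹ • (tr x • x) := by rw [smul_smul, inv_mul_cancel₀ ht, one_smul]
          _ = _ := by rw [h3, smul_smul]; congr 1; field_simp
      have h4 := hxx
      rw [h2, zsmul_mul, zmul_smul, o_mul, smul_smul] at h4
      rcases smul_eq_zero.1 h4 with h5 | h5
      · apply hx0
        rw [h2, mul_self_eq_zero.1 h5, zero_smul]
      · exact o_ne h5
  obtain ⟨z, hz⟩ : ∃ z, bl x z ≠ 0 := by
    by_contra hcon
    push Not at hcon
    exact hx0 (eq_zero_of_bl hcon)
  set y := avg s m z with hy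
  have hy1 : s y = y := avg_fixed hsm z
  have hy2 : bl x y ≠ 0 := by
    rw [hy, bl_avg hs hx]
    exact mul_ne_zero hm hz
  have h5 : tr (zornMul x y) = -bl x y := by
    have h6 : tr (zornMul x y) + bl x y = tr x * tr y := by
      simp only [tr, bl, mul0, mul7]
      ring
    rw [htr.1, zero_mul] at h6
    linear_combination h6
  have h7 : nm (zornMul x y) = 0 := by
    have h8 : nm (zornMul x y) = nm x * nm y := by
      simp only [nm, mul0, mul1, mul2, mul3, mul4, mul5, mul6, mul7]
      ring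
    rw [h8, htr.2, zero_mul]
  have h9 : tr (zornMul x y) ≠ 0 := by rw [h5]; exact neg_ne_zero.2 hy2
  refine ⟨(tr (zornMul x y))⁻¹ • zornMul x y, ?_, ?_, ?_⟩
  · rw [map_smul, mem_AutO.1 hs, hx, hy1]
  · rw [tr_smul, inv_mul_cancel₀ h9]
  · rw [nm_smul, h7, mul_zero]

/-- An automorphism fixing `e1` is given by a matrix of determinant one. -/
theorem exists_sl {s : V K ≃ₗ[K] V K} (hs : s ∈ AutO K) (he : s e1 = e1) :
    ∃ (P : Matrix (Fin 3) (Fin 3) K) (hP : P.det = 1), s = sl P hP := by
  set a : Fin 3 → V K := fun j => s (iA (Pi.single j 1)) with ha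
  have ha' : ∀ j, a j = iA ![a j 1, a j 2, a j 3] := fun j => map_iA hs he _
  set P : Matrix (Fin 3) (Fin 3) K :=
    !![a 0 1, a 1 1, a 2 1; a 0 2, a 1 2, a 2 2; a 0 3, a 1 3, a 2 3] with hP
  have b0 : s (iB (Pi.single 0 1)) = zornMul (a 1) (a 2) := by
    rw [ha, ← mem_AutO.1 hs]
    congr 1
    apply ext8 <;> simp [mul0, mul1, mul2, mul3, mul4, mul5, mul6, mul7, iA_apply, iB_apply]
  have b1 : s (iB (Pi.single 1 1)) = zornMul (a 2) (a 0) := by
    rw [ha, ← mem_AutO.1 hs]
    congr 1
    apply ext8 <;> simp [mul0, mul1, mul2, mul3, mul4, mul5, mul6, mul7, iA_apply, iB_apply]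
  have b2 : s (iB (Pi.single 2 1)) = zornMul (a 0) (a 1) := by
    rw [ha, ← mem_AutO.1 hs]
    congr 1
    apply ext8 <;> simp [mul0, mul1, mul2, mul3, mul4, mul5, mul6, mul7, iA_apply, iB_apply]
  have c0 : zornMul (a 0) (zornMul (a 1) (a 2)) = e1 := by
    rw [← b0, ha, ← mem_AutO.1 hs]
    rw [← he]
    congr 1
    apply ext8 <;> simp [mul0, mul1, mul2, mul3, mul4, mul5, mul6, mul7, iA_apply, iB_apply, e1]
  have z : ∀ j, a j 0 = 0 ∧ a j 4 = 0 ∧ a j 5 = 0 ∧ a j 6 = 0 ∧ a j 7 = 0 := by
    intro j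
    have := ha' j
    rw [iA_apply] at this
    exact ⟨congrFun this 0, congrFun this 4, congrFun this 5, congrFun this 6, congrFun this 7⟩
  obtain ⟨z00, z04, z05, z06, z07⟩ := z 0
  obtain ⟨z10, z14, z15, z16, z17⟩ := z 1
  obtain ⟨z20, z24, z25, z26, z27⟩ := z 2
  have hdet : P.det = 1 := by
    have h1 := congrFun c0 0
    simp only [mul0, mul4, mul5, mul6, z00, z04, z05, z06, z07, z10, z14, z15, z16, z17, z20, z24, z25, z26,
      z27, e1_0] at h1
    rw [det3]
    simp only [hP, Matrix.of_apply, Matrix.cons_val', Matrix.cons_val_zero, Matrix.cons_val_one,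
      Matrix.cons_val]
    linear_combination h1
  refine ⟨P, hdet, ?_⟩
  apply LinearEquiv.ext
  intro x
  have hx : x = x 0 • e1 + (x 1 • iA (Pi.single 0 1) + x 2 • iA (Pi.single 1 1) + x 3 • iA (Pi.single 2 1)) +
      (x 4 • iB (Pi.single 0 1) + x 5 • iB (Pi.single 1 1) + x 6 • iB (Pi.single 2 1)) + x 7 • (o - e1) := by
    apply ext8 <;> simp [iA_apply, iB_apply, o, e1]
  have ho := map_o hs
  have hsx : s x = x 0 • e1 + (x 1 • a 0 + x 2 • a 1 + x 3 • a 2) +
      (x 4 • zornMul (a 1) (a 2) + x 5 • zornMul (a 2) (a 0) + x 6 • zornMul (a 0) (a 1)) + x 7 • (o - e1) := by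
    conv_lhs => rw [hx]
    simp only [map_add, map_smul, map_sub, he, ho, b0, b1, b2]
    rfl
  rw [hsx, sl_apply]
  have hPe : P 0 0 = a 0 1 ∧ P 0 1 = a 1 1 ∧ P 0 2 = a 2 1 ∧ P 1 0 = a 0 2 ∧ P 1 1 = a 1 2 ∧ P 1 2 = a 2 2 ∧
      P 2 0 = a 0 3 ∧ P 2 1 = a 1 3 ∧ P 2 2 = a 2 3 := ⟨rfl, rfl, rfl, rfl, rfl, rfl, rfl, rfl, rfl⟩
  obtain ⟨p00, p01, p02, p10, p11, p12, p20, p21, p22⟩ := hPe
  apply ext8
  all_goals
    simp only [Pi.add_apply, Pi.smul_apply, Pi.sub_apply, smul_eq_mul, mul0, mul1, mul2, mul3, mul4, mul5, mul6, mul7,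
      z00, z04, z05, z06, z07, z10, z14, z15, z16, z17, z20, z24, z25, z26, z27,
      slF0, slF1, slF2, slF3, slF4, slF5, slF6, slF7, p00, p01, p02, p10, p11, p12, p20, p21, p22,
      e1_0, e1_1, e1_2, e1_3, e1_4, e1_5, e1_6, e1_7, o0, o1, o2, o3, o4, o5, o6, o7]
  all_goals ring

/-! ### Matrices of order three -/

/-- the triple product -/
def D3 (x y z : Fin 3 → K) : K :=
  x 0 * (y 1 * z 2 - y 2 * z 1) + x 1 * (y 2 * z 0 - y 0 * z 2) + x 2 * (y 0 * z 1 - y 1 * z 0)

theorem mv0 (A : Matrix (Fin 3) (Fin 3) K) (x : Fin 3 → K) :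
    A.mulVec x 0 = A 0 0 * x 0 + A 0 1 * x 1 + A 0 2 * x 2 := by
  simp [Matrix.mulVec, dotProduct, Fin.sum_univ_three]

theorem mv1 (A : Matrix (Fin 3) (Fin 3) K) (x : Fin 3 → K) :
    A.mulVec x 1 = A 1 0 * x 0 + A 1 1 * x 1 + A 1 2 * x 2 := by
  simp [Matrix.mulVec, dotProduct, Fin.sum_univ_three]

theorem mv2 (A : Matrix (Fin 3) (Fin 3) K) (x : Fin 3 → K) :
    A.mulVec x 2 = A 2 0 * x 0 + A 2 1 * x 1 + A 2 2 * x 2 := by
  simp [Matrix.mulVec, dotProduct, Fin.sum_univ_three]

theorem D3_mul (A : Matrix (Fin 3) (Fin 3) K) (x y z : Fin 3 → K) :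
    D3 (A.mulVec x) (A.mulVec y) (A.mulVec z) = A.det * D3 x y z := by
  rw [det3]
  simp only [D3, mv0, mv1, mv2]
  ring

theorem D3_tr (A : Matrix (Fin 3) (Fin 3) K) (x y z : Fin 3 → K) :
    D3 (A.mulVec x) y z + D3 x (A.mulVec y) z + D3 x y (A.mulVec z) = (A 0 0 + A 1 1 + A 2 2) * D3 x y z := by
  simp only [D3, mv0, mv1, mv2]
  ring

theorem eq_one_or_trace {A : Matrix (Fin 3) (Fin 3) K} (hd : A.det = 1) (h3 : A ^ 3 = 1)
    (hu : (A - 1).det = 0) : A = 1 ∨ A 0 0 + A 1 1 + A 2 2 = 0 := by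
  by_cases ht : A 0 0 + A 1 1 + A 2 2 = 0
  · exact Or.inr ht
  left
  -- `A² = adj A`
  have hadj : A.adjugate = A ^ 2 := by
    have h1 := A.mul_adjugate
    rw [hd, one_smul] at h1
    calc A.adjugate = A ^ 3 * A.adjugate := by rw [h3, one_mul]
      _ = A ^ 2 * (A * A.adjugate) := by rw [pow_succ, mul_assoc]
      _ = A ^ 2 := by rw [h1, mul_one]
  rw [Matrix.adjugate_fin_three, pow_two] at hadj
  have e : ∀ i j, _ = _ := fun i j => congrFun (congrFun hadj i) j
  simp only [Matrix.mul_apply, Fin.sum_univ_three] at e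
  have e01 := e 0 1
  have e02 := e 0 2
  have e10 := e 1 0
  have e12 := e 1 2
  have e20 := e 2 0
  have e21 := e 2 1
  have e00 := e 0 0
  have e11 := e 1 1
  have e22 := e 2 2
  simp only [Matrix.of_apply, Matrix.cons_val', Matrix.cons_val_zero, Matrix.cons_val_one,
      Matrix.cons_val] at e01 e02 e10 e12 e20 e21 e00 e11 e22
  have a01 : A 0 1 = 0 := by
    apply (mul_eq_zero.1 (show (A 0 0 + A 1 1 + A 2 2) * A 0 1 = 0 by linear_combination -e01)).resolve_left ht
  have a02 : A 0 2 = 0 := by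
    apply (mul_eq_zero.1 (show (A 0 0 + A 1 1 + A 2 2) * A 0 2 = 0 by linear_combination -e02)).resolve_left ht
  have a10 : A 1 0 = 0 := by
    apply (mul_eq_zero.1 (show (A 0 0 + A 1 1 + A 2 2) * A 1 0 = 0 by linear_combination -e10)).resolve_left ht
  have a12 : A 1 2 = 0 := by
    apply (mul_eq_zero.1 (show (A 0 0 + A 1 1 + A 2 2) * A 1 2 = 0 by linear_combination -e12)).resolve_left ht
  have a20 : A 2 0 = 0 := by
    apply (mul_eq_zero.1 (show (A 0 0 + A 1 1 + A 2 2) * A 2 0 = 0 by linear_combination -e20)).resolve_left ht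
  have a21 : A 2 1 = 0 := by
    apply (mul_eq_zero.1 (show (A 0 0 + A 1 1 + A 2 2) * A 2 1 = 0 by linear_combination -e21)).resolve_left ht
  have d1 : A 0 0 = A 1 1 := by
    have h := (mul_eq_zero.1 (show (A 0 0 + A 1 1 + A 2 2) * (A 0 0 - A 1 1) = 0 by
      linear_combination e11 - e00)).resolve_left ht
    exact sub_eq_zero.1 h
  have d2 : A 1 1 = A 2 2 := by
    have h := (mul_eq_zero.1 (show (A 0 0 + A 1 1 + A 2 2) * (A 1 1 - A 2 2) = 0 by
      linear_combination e22 - e11)).resolve_left ht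
    exact sub_eq_zero.1 h
  have hA : A 2 2 = 1 := by
    rw [det3] at hu
    simp only [Matrix.sub_apply, a01, a02, a10, a12, a20, a21, d1, d2, Matrix.one_apply_eq,
      Matrix.one_apply_ne (show (0 : Fin 3) ≠ 1 by decide), Matrix.one_apply_ne (show (0 : Fin 3) ≠ 2 by decide),
      Matrix.one_apply_ne (show (1 : Fin 3) ≠ 0 by decide), Matrix.one_apply_ne (show (1 : Fin 3) ≠ 2 by decide),
      Matrix.one_apply_ne (show (2 : Fin 3) ≠ 0 by decide), Matrix.one_apply_ne (show (2 : Fin 3) ≠ 1 by decide)] at hu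
    have h : (A 2 2 - 1) ^ 3 = 0 := by linear_combination hu
    exact sub_eq_zero.1 (pow_eq_zero_iff (n := 3) (by norm_num) |>.1 h)
  ext i j
  fin_cases i <;> fin_cases j <;> simp [a01, a02, a10, a12, a20, a21, d1, d2, hA]

/-- the cyclic permutation matrix -/
def P3 (K : Type*) [Field K] : Matrix (Fin 3) (Fin 3) K := !![0, 0, 1; 1, 0, 0; 0, 1, 0]

theorem det_P3 : (P3 K).det = 1 := by
  rw [det3]
  simp [P3]

theorem exists_conj_P3 (h3 : (3 : K) ≠ 0) {A : Matrix (Fin 3) (Fin 3) K} (hd : A.det = 1) (hA : A ^ 3 = 1)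
    (hu : (A - 1).det = 0) : A = 1 ∨ ∃ g : Matrix (Fin 3) (Fin 3) K, g.det = 1 ∧ A * g = g * P3 K := by
  rcases eq_one_or_trace hd hA hu with h | ht
  · exact Or.inl h
  right
  obtain ⟨u, hu0, hu1⟩ := Matrix.exists_mulVec_eq_zero_iff.2 hu
  rw [Matrix.sub_mulVec, Matrix.one_mulVec, sub_eq_zero] at hu1
  -- a vector `w` with `D u w (A w) ≠ 0`
  obtain ⟨w, hw⟩ : ∃ w, D3 u w (A.mulVec w) ≠ 0 := by
    by_contra hcon
    push Not at hcon
    have h1 : ∀ w w', D3 u w (A.mulVec w') = D3 u (A.mulVec w) w' := by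
      intro w w'
      have e1 := hcon (w + w')
      have e2 := hcon w
      have e3 := hcon w'
      rw [Matrix.mulVec_add] at e1
      simp only [D3, Pi.add_apply] at e1 e2 e3 ⊢
      linear_combination e1 - e2 - e3
    have h2 : ∀ w w', D3 u (A.mulVec w) (A.mulVec w') = D3 u w w' := by
      intro w w'
      have := D3_mul A u w w'
      rwa [hu1, hd, one_mul] at this
    have h4 : ∀ w w', D3 u w w' = 0 := by
      intro w w'
      have e1 := D3_tr A u w w'
      rw [hu1, ht, zero_mul, ← h1] at e1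
      have e2 := D3_tr A u w (A.mulVec w')
      rw [hu1, ht, zero_mul, ← h1, h1 w (A.mulVec w'), h2] at e2
      have : 3 * D3 u w w' = 0 := by linear_combination 2 * e2 - e1
      exact (mul_eq_zero.1 this).resolve_left h3
    apply hu0
    funext i
    fin_cases i
    · have := h4 ![0, 1, 0] ![0, 0, 1]
      simpa [D3] using this
    · have := h4 ![0, 0, 1] ![1, 0, 0]
      simpa [D3] using this
    · have := h4 ![1, 0, 0] ![0, 1, 0]
      simpa [D3] using this
  -- the cyclic vector
  set n : Fin 3 → K := (3 : K)⁻¹ • (w + A.mulVec w + A.mulVec (A.mulVec w)) with hn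
  have hAAA : ∀ x, A.mulVec (A.mulVec (A.mulVec x)) = x := by
    intro x
    rw [Matrix.mulVec_mulVec, Matrix.mulVec_mulVec]
    have : A * A * A = 1 := by rw [← hA]; noncomm_ring
    rw [this, Matrix.one_mulVec]
  have hn1 : A.mulVec n = n := by
    rw [hn, Matrix.mulVec_smul, Matrix.mulVec_add, Matrix.mulVec_add, hAAA]
    congr 1
    abel
  set v : Fin 3 → K := u + w - n with hv
  have hv1 : A.mulVec v = u + A.mulVec w - n := by
    rw [hv, Matrix.mulVec_sub, Matrix.mulVec_add, hu1, hn1]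
  have hv2 : A.mulVec (A.mulVec v) = u + A.mulVec (A.mulVec w) - n := by
    rw [hv1, Matrix.mulVec_sub, Matrix.mulVec_add, hu1, hn1]
  have hsum : ∀ i, w i + A.mulVec w i + A.mulVec (A.mulVec w) i = 3 * n i := by
    intro i
    rw [hn]
    simp only [Pi.smul_apply, Pi.add_apply, smul_eq_mul]
    rw [mul_inv_cancel_left₀ h3]
  have hDn : D3 u n (A.mulVec w) = D3 u n w := by
    have := D3_mul A u n w
    rwa [hu1, hn1, hd, one_mul] at this
  have hD : D3 v (A.mulVec v) (A.mulVec (A.mulVec v)) = 3 * D3 u w (A.mulVec w) := by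
    rw [hv2, hv1, hv]
    have s0 := hsum 0
    have s1 := hsum 1
    have s2 := hsum 2
    have t0 : A.mulVec (A.mulVec w) 0 = 3 * n 0 - w 0 - A.mulVec w 0 := by linear_combination s0
    have t1 : A.mulVec (A.mulVec w) 1 = 3 * n 1 - w 1 - A.mulVec w 1 := by linear_combination s1
    have t2 : A.mulVec (A.mulVec w) 2 = 3 * n 2 - w 2 - A.mulVec w 2 := by linear_combination s2
    simp only [D3, Pi.add_apply, Pi.sub_apply, t0, t1, t2] at hDn ⊢
    linear_combination -3 * hDn
  have hD0 : D3 v (A.mulVec v) (A.mulVec (A.mulVec v)) ≠ 0 := by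
    rw [hD]
    exact mul_ne_zero h3 hw
  set v1 := A.mulVec v with hv1'
  set v2 := A.mulVec v1 with hv2'
  have hv3 : A.mulVec v2 = v := hAAA v
  set g : Matrix (Fin 3) (Fin 3) K := !![v 0, v1 0, v2 0; v 1, v1 1, v2 1; v 2, v1 2, v2 2] with hg
  have hgdet : g.det = D3 v v1 v2 := by
    rw [det3]
    simp only [hg, D3, Matrix.of_apply, Matrix.cons_val', Matrix.cons_val_zero, Matrix.cons_val_one,
      Matrix.cons_val]
    ring
  have hAg : A * g = g * P3 K := by
    have r1 := hv1'
    have r2 := hv2'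
    have q0 := congrFun hv3 0
    have q1 := congrFun hv3 1
    have q2 := congrFun hv3 2
    have q3 := congrFun hv1' 0
    have q4 := congrFun hv1' 1
    have q5 := congrFun hv1' 2
    have q6 := congrFun hv2' 0
    have q7 := congrFun hv2' 1
    have q8 := congrFun hv2' 2
    simp only [mv0, mv1, mv2] at q0 q1 q2 q3 q4 q5 q6 q7 q8
    ext i j
    fin_cases i <;> fin_cases j <;>
      simp [Matrix.mul_apply, Fin.sum_univ_three, hg, P3] <;>
      first
      | linear_combination -q3
      | linear_combination -q4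
      | linear_combination -q5
      | linear_combination -q6
      | linear_combination -q7
      | linear_combination -q8
      | linear_combination q0
      | linear_combination q1
      | linear_combination q2
  set t : K := (g.det)⁻¹ with ht'
  have hg0 : g.det ≠ 0 := by rw [hgdet]; exact hD0
  set k : K := (t - 1) / 3 with hk
  have hk3 : 1 + 3 * k = t := by
    rw [hk]
    field_simp
    ring
  set c : Matrix (Fin 3) (Fin 3) K := !![1 + k, k, k; k, 1 + k, k; k, k, 1 + k] with hc
  have hcd : c.det = t := by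
    rw [det3, ← hk3]
    simp only [hc, Matrix.of_apply, Matrix.cons_val', Matrix.cons_val_zero, Matrix.cons_val_one,
      Matrix.cons_val]
    ring
  have hcP : P3 K * c = c * P3 K := by
    ext i j
    fin_cases i <;> fin_cases j <;>
      simp [Matrix.mul_apply, Fin.sum_univ_three, hc, P3]
  refine ⟨g * c, ?_, ?_⟩
  · rw [Matrix.det_mul, hcd, ht', mul_inv_cancel₀ hg0]
  · rw [← mul_assoc, hAg, mul_assoc, hcP, mul_assoc]

/-- the cyclic permutation -/
noncomputable def cyc3 (K : Type*) [Field K] : V K ≃ₗ[K] V K := sl (P3 K) det_P3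

theorem cyc3_apply (x : V K) : cyc3 K x = ![x 0, x 3, x 1, x 2, x 6, x 4, x 5, x 7] := by
  rw [cyc3, sl_apply]
  apply ext8 <;> simp [slF, P3]

theorem cyc3_mem : cyc3 K ∈ AutO K := sl_mem _ _

/-- **Automorphisms of order three which fix a vector of square zero.** -/
theorem ord3_normal (h3 : (3 : K) ≠ 0) {s : V K ≃ₗ[K] V K} (hs : s ∈ AutO K) (hs3 : s ^ 3 = 1)
    {x : V K} (hx0 : x ≠ 0) (hxx : zornMul x x = 0) (hx : s x = x) :
    s = 1 ∨ ∃ h ∈ AutO K, h * s * h⁻¹ = cyc3 K := by
  obtain ⟨e, he, he1, he0⟩ := exists_idem_of_sq hs (m := 3) (by exact_mod_cast h3) hs3 hx0 hxx hx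
  obtain ⟨h, hh, hhe⟩ := exists_idem he1 he0
  set s' := h * s * h⁻¹ with hs'
  have hs'm : s' ∈ AutO K := (AutO K).mul_mem ((AutO K).mul_mem hh hs) ((AutO K).inv_mem hh)
  have hs'e : s' e1 = e1 := by
    rw [hs', ← hhe]
    change h (s (h.symm (h e))) = h e
    rw [LinearEquiv.symm_apply_apply, he]
  have hs'3 : s' ^ 3 = 1 := by
    rw [hs', conj_pow, hs3, mul_one, mul_inv_cancel]
  obtain ⟨A, hA, hsA⟩ := exists_sl hs'm hs'e
  set y := h x with hy
  have hy0 : y ≠ 0 := by
    rw [hy]
    exact fun h0 => hx0 (h.map_eq_zero_iff.1 h0)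
  have hyy : zornMul y y = 0 := by rw [hy, ← mem_AutO.1 hh, hxx, map_zero]
  have hsy : s' y = y := by
    rw [hs', hy]
    change h (s (h.symm (h x))) = h x
    rw [LinearEquiv.symm_apply_apply, hx]
  rw [hsA, sl_apply] at hsy
  -- `A ^ 3 = 1`
  have hA3 : A ^ 3 = 1 := by
    have h1 : ∀ v, slF (A ^ 3) v = v := by
      intro v
      have e1 : A ^ 3 = A * (A * A) := by rw [pow_succ, pow_two, mul_assoc]
      rw [e1, slF_slF, slF_slF]
      have := congrArg (fun f : V K ≃ₗ[K] V K => f v) hs'3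
      rw [hsA] at this
      exact this
    ext i j
    have g1 := h1 (iA (Pi.single 0 1))
    have g2 := h1 (iA (Pi.single 1 1))
    have g3 := h1 (iA (Pi.single 2 1))
    have r : ∀ (v : Fin 3 → K), slF (A ^ 3) (iA v) = iA v → ∀ i : Fin 3, (A ^ 3).mulVec v i = v i := by
      intro v hv i
      fin_cases i
      · have := congrFun hv 1
        simp only [slF1, iA_apply] at this
        simpa [mv0] using this
      · have := congrFun hv 2
        simp only [slF2, iA_apply] at this
        simpa [mv1] using this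
      · have := congrFun hv 3
        simp only [slF3, iA_apply] at this
        simpa [mv2] using this
    have h2 := r (Pi.single j 1) (h1 _) i
    rw [Matrix.mulVec_single_one] at h2
    rw [Matrix.one_apply]
    simpa [Pi.single_apply] using h2
  -- `det (A - 1) = 0`
  have hdet : (A - 1).det = 0 := by
    by_cases hA0 : (![y 1, y 2, y 3] : Fin 3 → K) = 0
    · by_cases hB0 : (![y 4, y 5, y 6] : Fin 3 → K) = 0
      · exfalso
        have y1 := congrFun hA0 0
        have y2 := congrFun hA0 1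
        have y3 := congrFun hA0 2
        have y4 := congrFun hB0 0
        have y5 := congrFun hB0 1
        have y6 := congrFun hB0 2
        change y 1 = 0 at y1
        change y 2 = 0 at y2
        change y 3 = 0 at y3
        change y 4 = 0 at y4
        change y 5 = 0 at y5
        change y 6 = 0 at y6
        have q0 := congrFun hyy 0
        have q7 := congrFun hyy 7
        rw [mul0, y1, y2, y3] at q0
        rw [mul7, y1, y2, y3] at q7
        have y0 : y 0 = 0 := mul_self_eq_zero.1 (by simpa using q0)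
        have y7 : y 7 = 0 := mul_self_eq_zero.1 (by simpa using q7)
        exact hy0 (ext8 y0 y1 y2 y3 y4 y5 y6 y7)
      · -- `A⁻ᵀ` fixes a vector
        have hfix : A.transpose.mulVec ![y 4, y 5, y 6] = ![y 4, y 5, y 6] := by
          have q4 := congrFun hsy 4
          have q5 := congrFun hsy 5
          have q6 := congrFun hsy 6
          rw [slF4] at q4
          rw [slF5] at q5
          rw [slF6] at q6
          have hd := hA
          rw [det3] at hd
          funext i
          fin_cases i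
          · change A.transpose.mulVec ![y 4, y 5, y 6] 0 = y 4
            rw [mv0]
            simp only [Matrix.transpose_apply, Matrix.cons_val_zero, Matrix.cons_val_one, Matrix.cons_val]
            linear_combination (-A 0 0) * q4 - A 1 0 * q5 - A 2 0 * q6 + y 4 * hd
          · change A.transpose.mulVec ![y 4, y 5, y 6] 1 = y 5
            rw [mv1]
            simp only [Matrix.transpose_apply, Matrix.cons_val_zero, Matrix.cons_val_one, Matrix.cons_val]
            linear_combination (-A 0 1) * q4 - A 1 1 * q5 - A 2 1 * q6 + y 5 * hd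
          · change A.transpose.mulVec ![y 4, y 5, y 6] 2 = y 6
            rw [mv2]
            simp only [Matrix.transpose_apply, Matrix.cons_val_zero, Matrix.cons_val_one, Matrix.cons_val]
            linear_combination (-A 0 2) * q4 - A 1 2 * q5 - A 2 2 * q6 + y 6 * hd
        have h1 : (A - 1).transpose.det = 0 := by
          apply Matrix.exists_mulVec_eq_zero_iff.1
          refine ⟨_, hB0, ?_⟩
          rw [Matrix.transpose_sub, Matrix.transpose_one, Matrix.sub_mulVec, hfix, Matrix.one_mulVec, sub_self]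
        rwa [Matrix.det_transpose] at h1
    · apply Matrix.exists_mulVec_eq_zero_iff.1
      refine ⟨_, hA0, ?_⟩
      rw [Matrix.sub_mulVec, Matrix.one_mulVec, sub_eq_zero]
      funext i
      fin_cases i
      · have := congrFun hsy 1
        rw [slF1] at this
        change A.mulVec ![y 1, y 2, y 3] 0 = y 1
        rw [mv0]
        simpa using this
      · have := congrFun hsy 2
        rw [slF2] at this
        change A.mulVec ![y 1, y 2, y 3] 1 = y 2
        rw [mv1]
        simpa using this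
      · have := congrFun hsy 3
        rw [slF3] at this
        change A.mulVec ![y 1, y 2, y 3] 2 = y 3
        rw [mv2]
        simpa using this
  rcases exists_conj_P3 h3 hA hA3 hdet with hA1 | ⟨g, hg, hgA⟩
  · left
    have h1 : s' = 1 := by
      rw [hsA]
      apply LinearEquiv.ext
      intro v
      rw [sl_apply, hA1, slF_one]
      rfl
    have h2 : s = h⁻¹ * s' * h := by rw [hs']; group
    rw [h2, h1, mul_one, inv_mul_cancel]
  · right
    refine ⟨(sl g hg)⁻¹ * h, (AutO K).mul_mem ((AutO K).inv_mem (sl_mem g hg)) hh, ?_⟩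
    have h1 : (sl g hg)⁻¹ * h * s * ((sl g hg)⁻¹ * h)⁻¹ = (sl g hg)⁻¹ * s' * sl g hg := by
      rw [hs']; group
    have h2 : s' * sl g hg = sl g hg * cyc3 K := by
      rw [hsA]
      apply LinearEquiv.ext
      intro v
      change slF A (slF g v) = slF g (slF (P3 K) v)
      rw [← slF_slF, ← slF_slF, hgA]
    rw [h1, mul_assoc, h2, inv_mul_cancel_left]

end Cfsg.Agent.H161.Oct
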