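import Cfsg.Agent.H161.G2Elems
import Cfsg.Agent.H161.G2Emb
import Cfsg.Agent.H161.CoxTorus
import Cfsg.Agent.H638.G2Iso
import Cfsg.Agent.S1052
set_option linter.all false

-- part: H161/OctMixed3
section
/-!
# Unipotent automorphisms commuting with a diagonal one: characteristic two and the regular case
(helper161)
-/

set_option autoImplicit false
set_option linter.unusedSimpArgs false
set_option linter.unusedVariables false

namespace Cfsg.Agent.H161.Oct

open Cfsg.Lie Module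

variable {K : Type*} [Field K]

section Comm

variable {a b c : K} {s u : V K ≃ₗ[K] V K} (hs : ∀ x j, s x j = dg a b c j * x j)
  (hsu : ∀ x, u (s x) = s (u x)) (hu : u ∈ AutO K) {r : ℕ} (hr : nil u ^ r = 0)
  (habc : a * b * c = 1)

include hs hsu hu hr habc

/-- characteristic two, order not three: an involution -/
theorem mixed_two_sq [CharP K 2] (h1 : ¬ (a = 1 ∧ b = 1 ∧ c = 1))
    (h3 : ¬ (a ^ 3 = 1 ∧ b ^ 3 = 1 ∧ c ^ 3 = 1)) : u ^ 2 = 1 := by
  have h2 : (2 : K) = 0 := by exact_mod_cast CharP.cast_eq_zero K 2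
  have hselfinv : ∀ l : K, l ≠ 0 → l = l⁻¹ → l = 1 := by
    intro l hl0 hl
    have h4 : l * l = 1 := by nth_rw 2 [hl]; exact mul_inv_cancel₀ hl0
    have h5 : (l - 1) ^ 2 = 0 := by linear_combination h4 - (l - 1) * h2
    have h6 : l - 1 = 0 := by simpa using h5
    exact sub_eq_zero.1 h6
  have hmain : nil u ^ 2 = 0 := by
    apply eq_zero_of_single
    intro k
    by_cases hk : dg a b c k = 1
    swap
    · exact nil_pow_single hs hsu hr k (mult_le_two habc (dg_ne_zero habc k)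
        (fun h => hk (hselfinv _ (dg_ne_zero habc k) h)) h3)
    -- the value one
    have hone : (1 : K) = 1⁻¹ := inv_one.symm
    by_cases hall : a ≠ 1 ∧ b ≠ 1 ∧ c ≠ 1
    · apply nil_pow_single hs hsu hr k
      rw [hk, mult_eq, if_pos rfl, cnt_zero hone hall.1, cnt_zero hone hall.2.1,
        cnt_zero hone hall.2.2]
    -- one of the three is one
    have hWst : ∀ x ∈ Wl a b c 1, u x ∈ Wl a b c 1 := fun x hx => map_Wl hs hsu hx
    have huse : ∀ k : Fin 8, u (u (Pi.single k 1)) = Pi.single k 1 →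
        (nil u ^ 2) (Pi.single k 1) = 0 := by
      intro k h
      rw [nil_sq_apply, h, sub_self]
    by_cases ha : a = 1
    · have hb : b ≠ 1 := fun hb => h1 ⟨ha, hb, by rw [ha, hb] at habc; simpa using habc⟩
      have hc : c ≠ 1 := fun hc => h1 ⟨ha, by rw [ha, hc] at habc; simpa using habc, hc⟩
      have hb' : b⁻¹ ≠ 1 := fun h => hb (inv_eq_one.1 h)
      have hc' : c⁻¹ ≠ 1 := fun h => hc (inv_eq_one.1 h)
      obtain ⟨q1, q2, q3, q4⟩ := sq_on_quat (W := Wl a b c 1) (i := 1) (j := 4) hu hr hWst (by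
        intro x hx ht
        refine ⟨x 0, x 1, x 4, ?_⟩
        have e2 := hx 2 hb
        have e3 := hx 3 hc
        have e5 := hx 5 hb'
        have e6 := hx 6 hc'
        have e7 : x 7 = x 0 := by
          rw [tr] at ht
          linear_combination ht - (x 0) * h2
        apply ext8 <;> simp [o0, o1, o2, o3, o4, o5, o6, o7, e2, e3, e5, e6, e7])
        (by have := single_mem_Wl a b c 1; rwa [show dg a b c 1 = 1 from ha] at this)
        (by have := single_mem_Wl a b c 4; rwa [show dg a b c 4 = 1 from by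
              show a⁻¹ = 1; rw [ha, inv_one]] at this)
        (by simp [tr]) (by simp [tr]) (by
          apply ext8 <;> simp [mul0, mul1, mul2, mul3, mul4, mul5, mul6, mul7])
      have : k = 0 ∨ k = 1 ∨ k = 4 ∨ k = 7 := by
        fin_cases k
        · simp
        · simp
        · exact absurd hk hb
        · exact absurd hk hc
        · simp
        · exact absurd hk hb'
        · exact absurd hk hc'
        · simp
      rcases this with rfl | rfl | rfl | rfl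
      · exact huse _ q3
      · exact huse _ q1
      · exact huse _ q2
      · exact huse _ q4
    by_cases hb : b = 1
    · have hc : c ≠ 1 := fun hc => ha (by rw [hb, hc] at habc; simpa using habc)
      have ha' : a⁻¹ ≠ 1 := fun h => ha (inv_eq_one.1 h)
      have hc' : c⁻¹ ≠ 1 := fun h => hc (inv_eq_one.1 h)
      obtain ⟨q1, q2, q3, q4⟩ := sq_on_quat (W := Wl a b c 1) (i := 2) (j := 5) hu hr hWst (by
        intro x hx ht
        refine ⟨x 0, x 2, x 5, ?_⟩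
        have e1 := hx 1 ha
        have e3 := hx 3 hc
        have e4 := hx 4 ha'
        have e6 := hx 6 hc'
        have e7 : x 7 = x 0 := by
          rw [tr] at ht
          linear_combination ht - (x 0) * h2
        apply ext8 <;> simp [o0, o1, o2, o3, o4, o5, o6, o7, e1, e3, e4, e6, e7])
        (by have := single_mem_Wl a b c 2; rwa [show dg a b c 2 = 1 from hb] at this)
        (by have := single_mem_Wl a b c 5; rwa [show dg a b c 5 = 1 from by
              show b⁻¹ = 1; rw [hb, inv_one]] at this)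
        (by simp [tr]) (by simp [tr]) (by
          apply ext8 <;> simp [mul0, mul1, mul2, mul3, mul4, mul5, mul6, mul7])
      have : k = 0 ∨ k = 2 ∨ k = 5 ∨ k = 7 := by
        fin_cases k
        · simp
        · exact absurd hk ha
        · simp
        · exact absurd hk hc
        · exact absurd hk ha'
        · simp
        · exact absurd hk hc'
        · simp
      rcases this with rfl | rfl | rfl | rfl
      · exact huse _ q3
      · exact huse _ q1
      · exact huse _ q2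
      · exact huse _ q4
    have hc : c = 1 := by
      by_contra hc
      exact hall ⟨ha, hb, hc⟩
    have ha' : a⁻¹ ≠ 1 := fun h => ha (inv_eq_one.1 h)
    have hb' : b⁻¹ ≠ 1 := fun h => hb (inv_eq_one.1 h)
    obtain ⟨q1, q2, q3, q4⟩ := sq_on_quat (W := Wl a b c 1) (i := 3) (j := 6) hu hr hWst (by
      intro x hx ht
      refine ⟨x 0, x 3, x 6, ?_⟩
      have e1 := hx 1 ha
      have e3 := hx 2 hb
      have e4 := hx 4 ha'
      have e6 := hx 5 hb'
      have e7 : x 7 = x 0 := by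
        rw [tr] at ht
        linear_combination ht - (x 0) * h2
      apply ext8 <;> simp [o0, o1, o2, o3, o4, o5, o6, o7, e1, e3, e4, e6, e7])
      (by have := single_mem_Wl a b c 3; rwa [show dg a b c 3 = 1 from hc] at this)
      (by have := single_mem_Wl a b c 6; rwa [show dg a b c 6 = 1 from by
            show c⁻¹ = 1; rw [hc, inv_one]] at this)
      (by simp [tr]) (by simp [tr]) (by
        apply ext8 <;> simp [mul0, mul1, mul2, mul3, mul4, mul5, mul6, mul7])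
    have : k = 0 ∨ k = 3 ∨ k = 6 ∨ k = 7 := by
      fin_cases k
      · simp
      · exact absurd hk ha
      · exact absurd hk hb
      · simp
      · exact absurd hk ha'
      · exact absurd hk hb'
      · simp
      · simp
    rcases this with rfl | rfl | rfl | rfl
    · exact huse _ q3
    · exact huse _ q1
    · exact huse _ q2
    · exact huse _ q4
  have : Fact (Nat.Prime 2) := ⟨Nat.prime_two⟩
  have := pow_eq_one (p := 2) (n := 1) (by norm_num) hmain
  rwa [pow_one] at this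

omit hu habc in
/-- a value of multiplicity one -/
theorem fix_of_mult {k : Fin 8} (h : mult a b c (dg a b c k) ≤ 1) :
    u (Pi.single k 1) = Pi.single k 1 := by
  have := nil_pow_single hs hsu hr k h
  rw [pow_one, nil_apply] at this
  exact sub_eq_zero.1 this

open Classical in
/-- **The regular case**: no non-trivial unipotent element commutes. -/
theorem regular (ha : a ≠ 1) (hb : b ≠ 1) (hc : c ≠ 1) (hab : a ≠ b) (hbc : b ≠ c)
    (hac : a ≠ c) : u = 1 := by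
  have ha0 : a ≠ 0 := by rintro rfl; simp at habc
  have hb0 : b ≠ 0 := by rintro rfl; simp at habc
  have hc0 : c ≠ 0 := by rintro rfl; simp at habc
  have hab' : a * b ≠ 1 := fun h => hc (by rw [h, one_mul] at habc; exact habc)
  have hac' : a * c ≠ 1 := fun h => hb (by
    have : a * c * b = 1 := by rw [← habc]; ring
    rw [h, one_mul] at this; exact this)
  have hbc' : b * c ≠ 1 := fun h => ha (by rw [mul_assoc, h, mul_one] at habc; exact habc)
  -- the multiplicities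
  have gen : ∀ x y z : K, x ≠ 0 → y ≠ 0 → z ≠ 0 → x ≠ 1 → x ≠ x⁻¹ → y ≠ x → z ≠ x → y * x ≠ 1 →
      z * x ≠ 1 → (if (1 : K) = x then 2 else 0) + cnt x x + cnt y x + cnt z x ≤ 1 ∧
      (if (1 : K) = x⁻¹ then 2 else 0) + cnt x x⁻¹ + cnt y x⁻¹ + cnt z x⁻¹ ≤ 1 := by
    intro x y z hx hy hz h1 h2 h3 h4 h5 h6
    have h2' : x⁻¹ ≠ x⁻¹⁻¹ := by rw [inv_inv]; exact h2.symm
    have y1 : y⁻¹ ≠ x := by
      rintro rfl; exact h5 (mul_inv_cancel₀ hy)
    have z1 : z⁻¹ ≠ x := by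
      rintro rfl; exact h6 (mul_inv_cancel₀ hz)
    have y2 : y ≠ x⁻¹ := by
      rintro rfl; exact h5 (inv_mul_cancel₀ hx)
    have z2 : z ≠ x⁻¹ := by
      rintro rfl; exact h6 (inv_mul_cancel₀ hx)
    constructor
    · rw [if_neg (Ne.symm h1), cnt_zero' h3 y1, cnt_zero' h4 z1]
      have := cnt_le_one (x := x) h2
      omega
    · rw [if_neg, cnt_zero' y2 (fun h => h3 (inv_injective h)),
        cnt_zero' z2 (fun h => h4 (inv_injective h))]
      · have := cnt_le_one (x := x) h2'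
        omega
      · intro h; exact h1 (inv_eq_one.1 h.symm)
  have ma : a ≠ a⁻¹ → mult a b c a ≤ 1 ∧ mult a b c a⁻¹ ≤ 1 := by
    intro h
    rw [mult_eq, mult_eq]
    exact gen a b c ha0 hb0 hc0 ha h hab.symm hac.symm (by rwa [mul_comm]) (by rwa [mul_comm])
  have mb : b ≠ b⁻¹ → mult a b c b ≤ 1 ∧ mult a b c b⁻¹ ≤ 1 := by
    intro h
    rw [mult_eq, mult_eq]
    have := gen b a c hb0 ha0 hc0 hb h hab hbc.symm hab' (by rwa [mul_comm])
    omega
  have mc : c ≠ c⁻¹ → mult a b c c ≤ 1 ∧ mult a b c c⁻¹ ≤ 1 := by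
    intro h
    rw [mult_eq, mult_eq]
    have := gen c a b hc0 ha0 hb0 hc h hac hbc hac' hbc'
    omega
  have fa : a ≠ a⁻¹ → u (Pi.single 1 1) = Pi.single 1 1 ∧ u (Pi.single 4 1) = Pi.single 4 1 :=
    fun h => ⟨fix_of_mult hs hsu hr (k := 1) (ma h).1,
      fix_of_mult hs hsu hr (k := 4) (ma h).2⟩
  have fb : b ≠ b⁻¹ → u (Pi.single 2 1) = Pi.single 2 1 ∧ u (Pi.single 5 1) = Pi.single 5 1 :=
    fun h => ⟨fix_of_mult hs hsu hr (k := 2) (mb h).1,
      fix_of_mult hs hsu hr (k := 5) (mb h).2⟩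
  have fc : c ≠ c⁻¹ → u (Pi.single 3 1) = Pi.single 3 1 ∧ u (Pi.single 6 1) = Pi.single 6 1 :=
    fun h => ⟨fix_of_mult hs hsu hr (k := 3) (mc h).1,
      fix_of_mult hs hsu hr (k := 6) (mc h).2⟩
  -- at most one value is self-inverse
  have hself : ∀ x y : K, x ≠ 0 → y ≠ 0 → x ≠ 1 → y ≠ 1 → x = x⁻¹ → y = y⁻¹ → x = y := by
    intro x y hx hy hx1 hy1 h h'
    have e1 : x = -1 := by
      have : x * x = 1 := by nth_rw 2 [h]; exact mul_inv_cancel₀ hx
      rcases mul_self_eq_one_iff.1 this with h | h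
      · exact absurd h hx1
      · exact h
    have e2 : y = -1 := by
      have : y * y = 1 := by nth_rw 2 [h']; exact mul_inv_cancel₀ hy
      rcases mul_self_eq_one_iff.1 this with h | h
      · exact absurd h hy1
      · exact h
    rw [e1, e2]
  -- products
  have p23 : zornMul (Pi.single 2 1) (Pi.single 3 1) = (Pi.single 4 1 : V K) := by
    apply ext8 <;> simp [mul0, mul1, mul2, mul3, mul4, mul5, mul6, mul7]
  have p31 : zornMul (Pi.single 3 1) (Pi.single 1 1) = (Pi.single 5 1 : V K) := by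
    apply ext8 <;> simp [mul0, mul1, mul2, mul3, mul4, mul5, mul6, mul7]
  have p12 : zornMul (Pi.single 1 1) (Pi.single 2 1) = (Pi.single 6 1 : V K) := by
    apply ext8 <;> simp [mul0, mul1, mul2, mul3, mul4, mul5, mul6, mul7]
  have p56 : zornMul (Pi.single 6 1) (Pi.single 5 1) = (Pi.single 1 1 : V K) := by
    apply ext8 <;> simp [mul0, mul1, mul2, mul3, mul4, mul5, mul6, mul7]
  have p64 : zornMul (Pi.single 4 1) (Pi.single 6 1) = (Pi.single 2 1 : V K) := by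
    apply ext8 <;> simp [mul0, mul1, mul2, mul3, mul4, mul5, mul6, mul7]
  have p45 : zornMul (Pi.single 5 1) (Pi.single 4 1) = (Pi.single 3 1 : V K) := by
    apply ext8 <;> simp [mul0, mul1, mul2, mul3, mul4, mul5, mul6, mul7]
  have p14 : zornMul (Pi.single 1 1) (Pi.single 4 1) = (Pi.single 0 1 : V K) := by
    apply ext8 <;> simp [mul0, mul1, mul2, mul3, mul4, mul5, mul6, mul7]
  have hmu := mem_AutO.1 hu
  have all : u (Pi.single 1 1) = Pi.single 1 1 ∧ u (Pi.single 2 1) = Pi.single 2 1 ∧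
      u (Pi.single 3 1) = Pi.single 3 1 ∧ u (Pi.single 4 1) = Pi.single 4 1 ∧
      u (Pi.single 5 1) = Pi.single 5 1 ∧ u (Pi.single 6 1) = Pi.single 6 1 := by
    by_cases sa : a = a⁻¹
    · have sb : b ≠ b⁻¹ := fun h => hab (hself a b ha0 hb0 ha hb sa h)
      have sc : c ≠ c⁻¹ := fun h => hac (hself a c ha0 hc0 ha hc sa h)
      obtain ⟨b1, b2⟩ := fb sb
      obtain ⟨c1, c2⟩ := fc sc
      exact ⟨by rw [← p56, hmu, c2, b2], b1, c1, by rw [← p23, hmu, b1, c1], b2, c2⟩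
    · obtain ⟨a1, a2⟩ := fa sa
      by_cases sb : b = b⁻¹
      · have sc : c ≠ c⁻¹ := fun h => hbc (hself b c hb0 hc0 hb hc sb h)
        obtain ⟨c1, c2⟩ := fc sc
        exact ⟨a1, by rw [← p64, hmu, a2, c2], c1, a2, by rw [← p31, hmu, c1, a1], c2⟩
      · obtain ⟨b1, b2⟩ := fb sb
        exact ⟨a1, b1, by rw [← p45, hmu, b2, a2], a2, b2, by rw [← p12, hmu, a1, b1]⟩
  obtain ⟨f1, f2, f3, f4, f5, f6⟩ := all
  have f0 : u (Pi.single 0 1) = Pi.single 0 1 := by rw [← p14, hmu, f1, f4]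
  have f7 : u (Pi.single 7 1) = Pi.single 7 1 := by
    have h4 : (Pi.single 7 1 : V K) = o - Pi.single 0 1 := by
      apply ext8 <;> simp [o]
    rw [h4, map_sub, f0, map_o hu]
  have hN : nil u = 0 := by
    apply eq_zero_of_single
    intro i
    rw [nil_apply, sub_eq_zero]
    fin_cases i <;> assumption
  ext1 x
  have := LinearMap.congr_fun hN x
  rw [nil_apply] at this
  exact sub_eq_zero.1 this

end Comm

end Cfsg.Agent.H161.Oct
end

-- part: H161/G2Frob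
section
/-!
# The Frobenius map and the eigenvalues of an element of `Cfsg.Lie.G2 F` (helper161)
-/

set_option autoImplicit false
set_option linter.unusedSimpArgs false

namespace Cfsg.Agent.H161.Oct

open Cfsg.Lie Module Polynomial
open scoped Matrix
open Cfsg.Agent.H161.FrobComb (P)

variable {K : Type*} [Field K]

theorem coe_diag {t : V K ≃ₗ[K] V K} {a b c : K} (ht : ∀ x j, t x j = dg a b c j * x j) :
    (t : V K →ₗ[K] V K) = Matrix.toLin' (Matrix.diagonal (dg a b c)) := by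
  apply LinearMap.ext
  intro x
  funext j
  rw [Matrix.toLin'_apply, Matrix.mulVec_diagonal]
  exact ht x j

theorem roots_diag {t : V K ≃ₗ[K] V K} {a b c : K} (ht : ∀ x j, t x j = dg a b c j * x j) :
    (LinearMap.charpoly (t : V K →ₗ[K] V K)).roots = P 1 + (P a + P b + P c) := by
  rw [coe_diag ht, Matrix.charpoly_toLin', Matrix.charpoly_diagonal]
  have h0 : (∏ i, (X - C (dg a b c i))) =
      (((Finset.univ : Finset (Fin 8)).val.map (dg a b c)).map fun y => X - C y).prod := by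
    rw [Multiset.map_map]; rfl
  rw [h0, roots_multiset_prod_X_sub_C]
  have h1 : (Finset.univ : Finset (Fin 8)).val.map (dg a b c) =
      (1 ::ₘ a ::ₘ b ::ₘ c ::ₘ a⁻¹ ::ₘ b⁻¹ ::ₘ c⁻¹ ::ₘ 1 ::ₘ 0) := by
    rw [Fin.univ_val_map]
    rfl
  rw [h1]
  simp only [P, inv_one]
  simp only [← Multiset.singleton_add]
  abel

theorem map_P (x : K) (q : ℕ) : (P x).map (fun y => y ^ q) = P (x ^ q) := by
  simp [P]

variable {F : Type*} [Field F]

/-- **The Frobenius map permutes the eigenvalues.** -/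
theorem frob_stable [IsAlgClosed K] [Fintype F] (φ : F →+* K) {p n : ℕ} [Fact p.Prime]
    [CharP K p] (hF : Fintype.card F = p ^ n) (g : GL (Fin 8) F) {h t : V K ≃ₗ[K] V K}
    (hht : h * emb φ g * h⁻¹ = t) {a b c : K} (ht : ∀ x j, t x j = dg a b c j * x j) :
    P (a ^ p ^ n) + P (b ^ p ^ n) + P (c ^ p ^ n) = P a + P b + P c := by
  have hc : LinearMap.charpoly (t : V K →ₗ[K] V K) =
      ((g : Matrix (Fin 8) (Fin 8) F).charpoly).map φ := by
    rw [← charpoly_emb, ← LinearEquiv.charpoly_conj h (emb φ g : V K →ₗ[K] V K), ← hht]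
    rfl
  have hr := roots_diag ht
  rw [hc] at hr
  set f := (g : Matrix (Fin 8) (Fin 8) F).charpoly with hf
  have hfr : (iterateFrobenius K p n).comp φ = φ := by
    ext x
    rw [RingHom.comp_apply, iterateFrobenius_def, ← map_pow, ← hF, FiniteField.pow_card]
  have h1 : ((f.map φ).map (iterateFrobenius K p n)).roots =
      (f.map φ).roots.map (iterateFrobenius K p n) :=
    (IsAlgClosed.splits _).roots_map _
  rw [Polynomial.map_map, hfr, hr, Multiset.map_add, Multiset.map_add, Multiset.map_add] at h1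
  have h2 : ∀ x : K, (P x).map (iterateFrobenius K p n) = P (x ^ p ^ n) := by
    intro x
    rw [← map_P]
    apply Multiset.map_congr rfl
    intro y _
    exact iterateFrobenius_def p n y
  rw [h2, h2, h2, h2, one_pow] at h1
  exact (add_left_cancel h1).symm

end Cfsg.Agent.H161.Oct
end

-- part: H161/G2Upper
section
/-!
# Bounds for the element orders of `Cfsg.Lie.G2 F` (helper161)
-/

set_option autoImplicit false
set_option linter.unusedSimpArgs false

namespace Cfsg.Agent.H161.Oct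

open Cfsg.Lie Module
open scoped Matrix
open Cfsg.Agent.H161.FrobComb (Exps frob_cases frob_sing)

variable {K : Type*} [Field K]

theorem diag_pow {t : V K ≃ₗ[K] V K} {a b c : K} (ht : ∀ x j, t x j = dg a b c j * x j) (N : ℕ)
    (x : V K) (j : Fin 8) : (t ^ N) x j = (dg a b c j) ^ N * x j := by
  induction N generalizing x with
  | zero => simp
  | succ N ih => rw [pow_succ, LinearEquiv.mul_apply, ih, ht, pow_succ]; ring

theorem diag_pow_one {t : V K ≃ₗ[K] V K} {a b c : K} (ht : ∀ x j, t x j = dg a b c j * x j)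
    {N : ℕ} (ha : a ^ N = 1) (hb : b ^ N = 1) (hc : c ^ N = 1) : t ^ N = 1 := by
  apply LinearEquiv.ext
  intro x
  funext j
  rw [diag_pow ht]
  have : (dg a b c j) ^ N = 1 := by
    fin_cases j <;> simp [dg, ha, hb, hc]
  rw [this, one_mul]; rfl

theorem conj_pow_one {G : Type*} [Group G] {h s : G} {N : ℕ} (H : (h * s * h⁻¹) ^ N = 1) :
    s ^ N = 1 := by
  rw [conj_pow] at H
  have := congrArg (fun z => h⁻¹ * z * h) H
  simpa [mul_assoc] using this

/-- unipotent elements: Jordan blocks of size at most eight -/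
theorem nil_eight {u : V K ≃ₗ[K] V K} {r : ℕ} (hr : nil u ^ r = 0) : nil u ^ 8 = 0 := by
  apply LinearMap.ext
  intro x
  exact Nil.pow_zero_on hr ⊤ (fun w _ => trivial) (by simp) x trivial

/-- unipotent automorphisms in odd characteristic: Jordan blocks of size at most seven -/
theorem nil_seven (h2 : (2 : K) ≠ 0) {u : V K ≃ₗ[K] V K} (hu : u ∈ AutO K) {r : ℕ}
    (hr : nil u ^ r = 0) : nil u ^ 7 = 0 := by
  have hW : finrank K (LinearMap.ker (trL K)) ≤ 7 := by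
    have h1 : LinearMap.ker (trL K) ≠ ⊤ := by
      intro h
      have h3 : (o : V K) ∈ LinearMap.ker (trL K) := by rw [h]; trivial
      rw [LinearMap.mem_ker, trL_apply, tr_o] at h3
      exact h2 h3
    have h3 := Submodule.finrank_lt (lt_top_iff_ne_top.2 h1).ne
    have h4 : finrank K (V K) = 8 := by simp
    omega
  have hN := Nil.pow_zero_on hr (LinearMap.ker (trL K)) (fun w hw => by
    rw [LinearMap.mem_ker, trL_apply] at hw ⊢
    rw [nil_apply]
    have : tr (u w - w) = trL K (u w) - trL K w := by rw [← map_sub]; rfl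
    rw [this, trL_apply, trL_apply, map_tr hu, sub_self]) hW
  have ho : ∀ k, 1 ≤ k → (nil u ^ k) o = 0 := by
    intro k hk
    obtain ⟨j, rfl⟩ := Nat.exists_eq_add_of_le' hk
    rw [pow_succ, Module.End.mul_apply, nil_apply, map_o hu, sub_self, map_zero]
  apply LinearMap.ext
  intro x
  have hx : x = (tr x / 2) • o + (x - (tr x / 2) • o) := by abel
  rw [hx, map_add, map_smul, ho 7 (by norm_num), smul_zero, zero_add]
  apply hN
  rw [LinearMap.mem_ker, map_sub, map_smul, trL_apply, trL_apply, tr_o, smul_eq_mul]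
  field_simp
  ring

variable {F : Type*} [Field F]

/-- **Upper bound for the element orders.** -/
theorem order_bound [Fintype F] {p n : ℕ} [hp : Fact p.Prime] (hF : Fintype.card F = p ^ n)
    (hq : 2 ≤ p ^ n) {g : GL (Fin 8) F} (hg : g ∈ Cfsg.Lie.G2 F)
    (hdet : (g : Matrix (Fin 8) (Fin 8) F).det = 1) :
    ∃ N, orderOf g ∣ N ∧ (N ∈ Exps (p ^ n) ∨ N = p * (p ^ n - 1) ∨ N = p * (p ^ n + 1) ∨
      (p = 2 ∧ (N = 8 ∨ N = 12)) ∨ ((p = 3 ∨ p = 5) ∧ N = p ^ 2)) := by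
  have hn : n ≠ 0 := by
    rintro rfl
    rw [pow_zero] at hq
    omega
  have hcharF : CharP F p := by
    obtain ⟨r, hr⟩ := CharP.exists F
    obtain ⟨k, hk1, hk2⟩ := FiniteField.card F r
    rw [hF] at hk2
    have : p = r := by
      have h1 : p ∣ r ^ (k : ℕ) := by rw [← hk2]; exact dvd_pow_self p hn
      exact (Nat.prime_dvd_prime_iff_eq hp.out hk1).1 (hp.out.dvd_of_dvd_pow h1)
    rw [this]; exact hr
  let K := AlgebraicClosure F
  let φ : F →+* K := algebraMap F K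
  have : CharP K p := charP_of_injective_algebraMap φ.injective p
  set G := emb φ g with hG
  have hGm : G ∈ AutO K := emb_mem φ hg
  have hord : orderOf G = orderOf g := orderOf_injective (emb φ) (emb_inj φ) g
  have hpos : 0 < orderOf g := orderOf_pos g
  obtain ⟨k, m, hm, hkm⟩ := Nat.exists_eq_pow_mul_and_not_dvd hpos.ne' p hp.out.ne_one
  rw [← hord] at hkm
  have hmK : (m : K) ≠ 0 := by
    intro h
    rw [CharP.cast_eq_zero_iff K p] at h
    exact hm h
  have hGo : G ^ (p ^ k * m) = 1 := by rw [← hkm, pow_orderOf_eq_one]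
  set s := G ^ p ^ k with hs
  set u := G ^ m with hu
  have hsm : s ^ m = 1 := by rw [hs, ← pow_mul, hGo]
  have huk : u ^ p ^ k = 1 := by rw [hu, ← pow_mul, mul_comm, hGo]
  have hsA : s ∈ AutO K := (AutO K).pow_mem hGm _
  have huA : u ∈ AutO K := (AutO K).pow_mem hGm _
  have hse : s = emb φ (g ^ p ^ k) := by rw [hs, hG, map_pow]
  have hdets : LinearMap.det (s : V K →ₗ[K] V K) = 1 := by
    rw [hse, det_emb, Units.val_pow_eq_pow_val, Matrix.det_pow, hdet, one_pow, map_one]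
  obtain ⟨h, hh, a, b, c, habc, hx⟩ := exists_diag hsA hmK hsm hdets
  set t := h * s * h⁻¹ with ht
  set v := h * u * h⁻¹ with hv
  have htd : ∀ x j, t x j = dg a b c j * x j := by
    intro x j
    rw [ht, hx]
    fin_cases j <;> simp [dg]
  have hvA : v ∈ AutO K := (AutO K).mul_mem ((AutO K).mul_mem hh huA) ((AutO K).inv_mem hh)
  have hcomm : ∀ x, v (t x) = t (v x) := by
    intro x
    rw [← LinearEquiv.mul_apply, ← LinearEquiv.mul_apply]
    have : v * t = t * v := by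
      rw [hv, ht, hs, hu]
      have h1 : Commute (G ^ m) (G ^ p ^ k) := (Commute.refl G).pow_pow _ _
      calc h * G ^ m * h⁻¹ * (h * G ^ p ^ k * h⁻¹) = h * (G ^ m * G ^ p ^ k) * h⁻¹ := by group
        _ = h * (G ^ p ^ k * G ^ m) * h⁻¹ := by rw [h1.eq]
        _ = _ := by group
    rw [this]
  have hvk : v ^ p ^ k = 1 := by rw [hv, conj_pow, huk]; simp
  have hnil := nil_nilpotent hvk
  have hfr := frob_stable φ hF (g ^ p ^ k) (h := h) (t := t) (by rw [← hse]) htd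
  -- the orders of the parts
  have hmd : ∀ N, a ^ N = 1 → b ^ N = 1 → c ^ N = 1 → m ∣ N := by
    intro N ha hb hc
    have h1 : s ^ N = 1 := conj_pow_one (diag_pow_one htd ha hb hc)
    rw [hs, ← pow_mul] at h1
    have h2 := orderOf_dvd_of_pow_eq_one h1
    rw [hkm] at h2
    exact Nat.dvd_of_mul_dvd_mul_left (pow_pos hp.out.pos _) h2
  have hvd : ∀ M, v ^ M = 1 → p ^ k ∣ M := by
    intro M hM
    have h1 : u ^ M = 1 := conj_pow_one hM
    rw [hu, ← pow_mul] at h1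
    have h2 := orderOf_dvd_of_pow_eq_one h1
    rw [hkm, mul_comm m] at h2
    have hmpos : 0 < m := Nat.pos_of_ne_zero (by rintro rfl; exact hm (dvd_zero p))
    exact Nat.dvd_of_mul_dvd_mul_right hmpos h2
  rw [← hord, hkm]
  by_cases hall : a = 1 ∧ b = 1 ∧ c = 1
  · -- unipotent elements
    obtain ⟨ha, hb, hc⟩ := hall
    have hm1 : m = 1 := Nat.dvd_one.1 (hmd 1 (by rw [ha, one_pow]) (by rw [hb, one_pow])
      (by rw [hc, one_pow]))
    rw [hm1, mul_one]
    have h8 := nil_eight hnil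
    by_cases hp2 : p = 2
    · subst hp2
      refine ⟨8, hvd _ ?_, Or.inr (Or.inr (Or.inr (Or.inl ⟨rfl, Or.inl rfl⟩)))⟩
      exact pow_eq_one (p := 2) (n := 3) (by norm_num) h8
    by_cases hp3 : p = 3
    · subst hp3
      refine ⟨9, hvd _ ?_, Or.inr (Or.inr (Or.inr (Or.inr ⟨Or.inl rfl, rfl⟩)))⟩
      exact pow_eq_one (p := 3) (n := 2) (by norm_num) h8
    by_cases hp5 : p = 5
    · subst hp5
      refine ⟨25, hvd _ ?_, Or.inr (Or.inr (Or.inr (Or.inr ⟨Or.inr rfl, rfl⟩)))⟩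
      exact pow_eq_one (p := 5) (n := 2) (by norm_num) h8
    have hp7 : 7 ≤ p := by
      by_contra hcon
      have h1 := hp.out.two_le
      have h2 : p ≠ 4 := by rintro rfl; exact absurd hp.out (by norm_num)
      have h3 : p ≠ 6 := by rintro rfl; exact absurd hp.out (by norm_num)
      omega
    have h2 : (2 : K) ≠ 0 := by
      intro h
      have h3 : ((2 : ℕ) : K) = 0 := by exact_mod_cast h
      rw [CharP.cast_eq_zero_iff K p] at h3
      exact hp2 ((Nat.prime_dvd_prime_iff_eq hp.out Nat.prime_two).1 h3)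
    have h7 := nil_seven h2 hvA hnil
    refine ⟨p * (p ^ n - 1), (hvd p ?_).trans (dvd_mul_right _ _), Or.inr (Or.inl rfl)⟩
    have := pow_eq_one (p := p) (n := 1) (by rwa [pow_one]) h7
    rwa [pow_one] at this
  by_cases hreg : a ≠ 1 ∧ b ≠ 1 ∧ c ≠ 1 ∧ a ≠ b ∧ b ≠ c ∧ a ≠ c
  · obtain ⟨h1, h2, h3, h4, h5, h6⟩ := hreg
    have hv1 := regular htd hcomm hvA hnil habc h1 h2 h3 h4 h5 h6
    have hk1 : p ^ k = 1 := Nat.dvd_one.1 (hvd 1 (by rw [pow_one, hv1]))
    rw [hk1, one_mul]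
    obtain ⟨N, hN, ha, hb, hc⟩ := frob_cases hq habc hfr
    exact ⟨N, hmd N ha hb hc, Or.inl hN⟩
  have hsing : a = 1 ∨ b = 1 ∨ c = 1 ∨ a = b ∨ b = c ∨ a = c := by
    by_contra hcon
    push Not at hcon
    exact hreg hcon
  obtain ⟨N, hN, ha, hb, hc⟩ := frob_sing hq habc hsing hfr
  have hmN := hmd N ha hb hc
  have hfin : p ^ k * m ∣ p * N → ∃ N, p ^ k * m ∣ N ∧ (N ∈ Exps (p ^ n) ∨ N = p * (p ^ n - 1) ∨
      N = p * (p ^ n + 1) ∨ (p = 2 ∧ (N = 8 ∨ N = 12)) ∨ ((p = 3 ∨ p = 5) ∧ N = p ^ 2)) := by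
    intro h1
    refine ⟨_, h1, ?_⟩
    rcases hN with rfl | rfl
    · exact Or.inr (Or.inl rfl)
    · exact Or.inr (Or.inr (Or.inl rfl))
  by_cases hp2 : p = 2
  · subst hp2
    by_cases h3 : a ^ 3 = 1 ∧ b ^ 3 = 1 ∧ c ^ 3 = 1
    · have h4 := mixed_two_four htd hcomm hnil habc hall
      refine ⟨12, ?_, Or.inr (Or.inr (Or.inr (Or.inl ⟨rfl, Or.inr rfl⟩)))⟩
      exact mul_dvd_mul (hvd 4 h4) (hmd 3 h3.1 h3.2.1 h3.2.2)
    · exact hfin (mul_dvd_mul (hvd 2 (mixed_two_sq htd hcomm hvA hnil habc hall h3)) hmN)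
  · exact hfin (mul_dvd_mul (hvd p (mixed_odd htd hcomm hvA hnil habc hp2 hall)) hmN)

end Cfsg.Agent.H161.Oct
end

-- part: H161/G2Unip
section
/-!
# Regular unipotent elements of the octonion automorphism group, and an element of order 12
(helper161)
-/

set_option autoImplicit false
set_option linter.unusedSimpArgs false

namespace Cfsg.Agent.H161.Oct

open Cfsg.Lie Module
open scoped Matrix

variable {F : Type*} [Field F]

/-- the transvection -/
def tr01 (F : Type*) [Field F] : Matrix (Fin 3) (Fin 3) F := !![1, 1, 0; 0, 1, 0; 0, 0, 1]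

theorem tr01_det : (tr01 F).det = 1 := by
  rw [tr01, Matrix.det_fin_three]; simp

/-- the regular unipotent element -/
noncomputable def ru (F : Type*) [Field F] : V F ≃ₗ[F] V F := tau ![0, 1, 0] * sl (tr01 F) tr01_det

theorem ru_mem : ru F ∈ AutO F := (AutO F).mul_mem (tau_mem _) (sl_mem _ _)

def Z1 : Matrix (Fin 8) (Fin 8) ℤ := !![0, 0, 0, 0, -1, 1, 0, 0;
  0, 0, 1, 0, 0, 0, 0, 0;
  -1, 0, 0, 0, 1, -1, 0, 1;
  0, 0, 0, 0, 0, 0, 0, 0;
  0, 0, 0, -1, 0, 0, 0, 0;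
  0, 0, 0, 0, -1, 0, 0, 0;
  0, 1, 1, 0, 0, 0, 0, 0;
  0, 0, 0, 0, 1, -1, 0, 0]
def Z2 : Matrix (Fin 8) (Fin 8) ℤ := !![0, 0, 0, 1, -1, 0, 0, 0;
  -1, 0, 0, 0, 1, -1, 0, 1;
  0, 0, 0, -1, 3, -2, 0, 0;
  0, 0, 0, 0, 0, 0, 0, 0;
  0, 0, 0, 0, 0, 0, 0, 0;
  0, 0, 0, 1, 0, 0, 0, 0;
  -1, 0, 1, 0, 1, -1, 0, 1;
  0, 0, 0, -1, 1, 0, 0, 0]
def Z3 : Matrix (Fin 8) (Fin 8) ℤ := !![0, 0, 0, 1, 0, 0, 0, 0;
  0, 0, 0, -1, 3, -2, 0, 0;
  0, 0, 0, -3, 2, 0, 0, 0;
  0, 0, 0, 0, 0, 0, 0, 0;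
  0, 0, 0, 0, 0, 0, 0, 0;
  0, 0, 0, 0, 0, 0, 0, 0;
  -1, 0, 0, -1, 4, -3, 0, 1;
  0, 0, 0, -1, 0, 0, 0, 0]
def Z4 : Matrix (Fin 8) (Fin 8) ℤ := !![0, 0, 0, 0, 0, 0, 0, 0;
  0, 0, 0, -3, 2, 0, 0, 0;
  0, 0, 0, -2, 0, 0, 0, 0;
  0, 0, 0, 0, 0, 0, 0, 0;
  0, 0, 0, 0, 0, 0, 0, 0;
  0, 0, 0, 0, 0, 0, 0, 0;
  0, 0, 0, -4, 5, -2, 0, 0;
  0, 0, 0, 0, 0, 0, 0, 0]
def Z5 : Matrix (Fin 8) (Fin 8) ℤ := !![0, 0, 0, 0, 0, 0, 0, 0;
  0, 0, 0, -2, 0, 0, 0, 0;
  0, 0, 0, 0, 0, 0, 0, 0;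
  0, 0, 0, 0, 0, 0, 0, 0;
  0, 0, 0, 0, 0, 0, 0, 0;
  0, 0, 0, 0, 0, 0, 0, 0;
  0, 0, 0, -5, 2, 0, 0, 0;
  0, 0, 0, 0, 0, 0, 0, 0]

theorem z2 : Z1 * Z1 = Z2 := by decide +kernel
theorem z3 : Z2 * Z1 = Z3 := by decide +kernel
theorem z4 : Z2 * Z2 = Z4 := by decide +kernel
theorem z5 : Z4 * Z1 = Z5 := by decide +kernel
theorem z7 : Z4 * Z3 = 0 := by decide +kernel

/-- the nilpotent part is given by the integral matrix -/
theorem nil_ru : nil (ru F) = Matrix.toLin' (Z1.map (Int.castRingHom F)) := by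
  apply (Pi.basisFun F (Fin 8)).ext
  intro j
  rw [Pi.basisFun_apply, nil_apply, Matrix.toLin'_apply, Matrix.mulVec_single_one]
  show tauF ![0, 1, 0] (slF (tr01 F) (Pi.single j 1)) - Pi.single j 1 = _
  fin_cases j <;>
  · apply ext8 <;>
    simp [Z1, slF0, slF1, slF2, slF3, slF4, slF5, slF6, slF7, tau0, tau1, tau2, tau3, tau4, tau5,
      tau6, tau7, tr01, Matrix.col]

theorem nil_ru_pow (k : ℕ) :
    nil (ru F) ^ k = Matrix.toLin' ((Z1 ^ k).map (Int.castRingHom F)) := by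
  rw [nil_ru, ← Matrix.toLin'_pow]
  congr 1
  exact (map_pow (Int.castRingHom F).mapMatrix Z1 k).symm

theorem Z1_3 : Z1 ^ 3 = Z3 := by rw [pow_succ, pow_two, z2, z3]
theorem Z1_4 : Z1 ^ 4 = Z4 := by rw [show (4 : ℕ) = 2 + 2 from rfl, pow_add, pow_two, z2, z4]
theorem Z1_5 : Z1 ^ 5 = Z5 := by rw [pow_succ, Z1_4, z5]
theorem Z1_7 : Z1 ^ 7 = 0 := by rw [show (7 : ℕ) = 4 + 3 from rfl, pow_add, Z1_4, Z1_3, z7]

theorem nil_ru_seven : nil (ru F) ^ 7 = 0 := by
  rw [nil_ru_pow, Z1_7]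
  apply LinearMap.ext
  intro x
  rw [Matrix.toLin'_apply]
  have : (0 : Matrix (Fin 8) (Fin 8) ℤ).map (Int.castRingHom F) = 0 := by
    ext i j; simp
  rw [this]; simp

theorem nil_ru_ne {k : ℕ} {i j : Fin 8} (h : ((Z1 ^ k) i j : F) ≠ 0) : nil (ru F) ^ k ≠ 0 := by
  intro h0
  apply h
  have h1 := congrArg (fun T : Module.End F (V F) => T (Pi.single j 1) i) h0
  rw [nil_ru_pow] at h1
  simpa [Matrix.mulVec_single_one, Matrix.col] using h1

/-- in characteristic `p` the order is the smallest power of `p` which is at least the size of the block -/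
theorem orderOf_ru {p : ℕ} [Fact p.Prime] [CharP F p] {n : ℕ} (h7 : 7 ≤ p ^ (n + 1))
    (h : nil (ru F) ^ p ^ n ≠ 0) : orderOf (ru F) = p ^ (n + 1) := by
  apply orderOf_eq_prime_pow
  · intro h1
    apply h
    exact nil_nilpotent h1
  · exact pow_eq_one h7 nil_ru_seven

theorem orderOf_ru_two [CharP F 2] : orderOf (ru F) = 8 := by
  have : Fact (Nat.Prime 2) := ⟨Nat.prime_two⟩
  apply orderOf_ru (p := 2) (n := 2) (by norm_num)
  apply nil_ru_ne (i := 1) (j := 3)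
  have h2 : (2 : F) = 0 := by exact_mod_cast CharP.cast_eq_zero F 2
  rw [show (2 : ℕ) ^ 2 = 4 from rfl, Z1_4]
  have : ((Z4 1 3 : ℤ) : F) = 1 := by
    have e : Z4 1 3 = -3 := by decide +kernel
    rw [e]; push_cast
    linear_combination (-2) * h2
  rw [this]
  exact one_ne_zero

theorem orderOf_ru_three [CharP F 3] : orderOf (ru F) = 3 ^ 2 := by
  have : Fact (Nat.Prime 3) := ⟨Nat.prime_three⟩
  apply orderOf_ru (p := 3) (n := 1) (by norm_num)
  apply nil_ru_ne (i := 0) (j := 3)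
  rw [show (3 : ℕ) ^ 1 = 3 from rfl, Z1_3]
  have : ((Z3 0 3 : ℤ) : F) = 1 := by
    have e : Z3 0 3 = 1 := by decide +kernel
    rw [e]; push_cast
    rfl
  rw [this]
  exact one_ne_zero

theorem orderOf_ru_five [CharP F 5] : orderOf (ru F) = 5 ^ 2 := by
  have : Fact (Nat.Prime 5) := ⟨Nat.prime_five⟩
  apply orderOf_ru (p := 5) (n := 1) (by norm_num)
  apply nil_ru_ne (i := 1) (j := 3)
  rw [show (5 : ℕ) ^ 1 = 5 from rfl, Z1_5]
  have e : Z5 1 3 = -2 := by decide +kernel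
  rw [e]
  intro h
  have h5 : (5 : F) = 0 := by exact_mod_cast CharP.cast_eq_zero F 5
  have h1 : (1 : F) = 0 := by
    push_cast at h
    linear_combination h5 + 2 * h
  exact one_ne_zero h1

end Cfsg.Agent.H161.Oct
end

-- part: H161/G2Twelve
section
/-!
# An element of order 12 of the octonion automorphism group in characteristic two (helper161)
-/

set_option autoImplicit false
set_option linter.unusedSimpArgs false

namespace Cfsg.Agent.H161.Oct

open Cfsg.Lie Module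
open scoped Matrix

variable {F : Type*} [Field F]

/-- the cyclic permutation -/
def cyc (F : Type*) [Field F] : Matrix (Fin 3) (Fin 3) F := !![0, 0, 1; 1, 0, 0; 0, 1, 0]

theorem cyc_det : (cyc F).det = 1 := by
  rw [cyc, Matrix.det_fin_three]; simp

/-- the element -/
noncomputable def tw (F : Type*) [Field F] : V F ≃ₗ[F] V F :=
  tau ![1, 0, 0] * swp F * sl (cyc F) cyc_det

theorem tw_mem : tw F ∈ AutO F :=
  (AutO F).mul_mem ((AutO F).mul_mem (tau_mem _) swp_mem) (sl_mem _ _)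

def Y1 : Matrix (Fin 8) (Fin 8) ℤ := !![0, 0, 0, -1, 0, 0, 0, 1;
  1, 0, 0, 1, 0, 0, -1, -1;
  0, 0, 0, 0, -1, 0, 0, 0;
  0, 0, 0, 0, 0, -1, 0, 0;
  0, 0, 0, -1, 0, 0, 0, 0;
  0, -1, 0, 0, 0, -1, 0, 0;
  0, 0, -1, 0, 1, 0, 0, 0;
  1, 0, 0, 1, 0, 0, 0, 0]
def A1 : Matrix (Fin 8) (Fin 8) (ZMod 2) := !![0, 0, 0, 1, 0, 0, 0, 1;
  1, 0, 0, 1, 0, 0, 1, 1;
  0, 0, 0, 0, 1, 0, 0, 0;
  0, 0, 0, 0, 0, 1, 0, 0;
  0, 0, 0, 1, 0, 0, 0, 0;
  0, 1, 0, 0, 0, 1, 0, 0;
  0, 0, 1, 0, 1, 0, 0, 0;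
  1, 0, 0, 1, 0, 0, 0, 0]
def A2 : Matrix (Fin 8) (Fin 8) (ZMod 2) := !![1, 0, 0, 1, 0, 1, 0, 0;
  1, 0, 1, 0, 1, 1, 0, 1;
  0, 0, 0, 1, 0, 0, 0, 0;
  0, 1, 0, 0, 0, 1, 0, 0;
  0, 0, 0, 0, 0, 1, 0, 0;
  1, 1, 0, 1, 0, 1, 1, 1;
  0, 0, 0, 1, 1, 0, 0, 0;
  0, 0, 0, 1, 0, 1, 0, 1]
def A4 : Matrix (Fin 8) (Fin 8) (ZMod 2) := !![0, 0, 0, 0, 0, 1, 1, 1;
  0, 1, 0, 0, 0, 0, 1, 0;
  0, 1, 0, 0, 0, 1, 0, 0;
  0, 1, 1, 1, 1, 0, 1, 0;
  1, 1, 0, 1, 0, 1, 1, 1;
  1, 0, 1, 0, 0, 1, 1, 1;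
  0, 1, 0, 0, 0, 0, 0, 0;
  1, 0, 0, 0, 0, 1, 1, 0]
def A6 : Matrix (Fin 8) (Fin 8) (ZMod 2) := !![1, 1, 0, 1, 1, 0, 1, 0;
  1, 0, 1, 1, 0, 1, 0, 1;
  0, 1, 1, 1, 1, 0, 1, 0;
  1, 1, 1, 0, 0, 1, 0, 1;
  1, 0, 1, 0, 0, 1, 1, 1;
  0, 1, 0, 1, 1, 1, 1, 0;
  1, 0, 1, 0, 1, 1, 0, 1;
  0, 1, 0, 1, 1, 0, 1, 1]

theorem y1 : Y1.map (Int.castRingHom (ZMod 2)) = A1 := by decide +kernel
theorem a2 : A1 * A1 = A2 := by decide +kernel
theorem a4 : A2 * A2 = A4 := by decide +kernel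
theorem a6 : A4 * A2 = A6 := by decide +kernel
theorem a12 : A6 * A6 = 1 := by decide +kernel

theorem coe_tw : (tw F : V F →ₗ[F] V F) = Matrix.toLin' (Y1.map (Int.castRingHom F)) := by
  apply (Pi.basisFun F (Fin 8)).ext
  intro j
  rw [Pi.basisFun_apply, Matrix.toLin'_apply, Matrix.mulVec_single_one]
  show tauF ![1, 0, 0] (swpF (slF (cyc F) (Pi.single j 1))) = _
  fin_cases j <;>
  · apply ext8 <;>
    simp [Y1, slF0, slF1, slF2, slF3, slF4, slF5, slF6, slF7, tau0, tau1, tau2, tau3, tau4, tau5,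
      tau6, tau7, swpF0, swpF1, swpF2, swpF3, swpF4, swpF5, swpF6, swpF7, cyc, Matrix.col]

theorem coe_tw_pow [CharP F 2] (k : ℕ) :
    ((tw F ^ k : V F ≃ₗ[F] V F) : V F →ₗ[F] V F) =
      Matrix.toLin' ((A1 ^ k).map (ZMod.castHom (dvd_refl 2) F)) := by
  have h1 : Y1.map (Int.castRingHom F) = A1.map (ZMod.castHom (dvd_refl 2) F) := by
    rw [← y1, Matrix.map_map]
    congr 1
    funext z
    simp
  have h2 : ((tw F ^ k : V F ≃ₗ[F] V F) : V F →ₗ[F] V F) = (tw F : V F →ₗ[F] V F) ^ k :=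
    coe_pow_end _ _
  rw [h2, coe_tw, h1, ← Matrix.toLin'_pow]
  congr 1
  exact (map_pow (ZMod.castHom (dvd_refl 2) F).mapMatrix A1 k).symm

theorem orderOf_tw [CharP F 2] : orderOf (tw F) = 12 := by
  have e4 : A1 ^ 4 = A4 := by rw [show (4 : ℕ) = 2 + 2 from rfl, pow_add, pow_two, a2, a4]
  have e6 : A1 ^ 6 = A6 := by rw [show (6 : ℕ) = 4 + 2 from rfl, pow_add, e4, pow_two, a2, a6]
  have e12 : A1 ^ 12 = 1 := by rw [show (12 : ℕ) = 6 + 6 from rfl, pow_add, e6, a12]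
  have hne : ∀ k : ℕ, A1 ^ k ≠ 1 → tw F ^ k ≠ 1 := by
    intro k hk h
    apply hk
    have h1 := coe_tw_pow (F := F) k
    rw [h] at h1
    have h2 : Matrix.toLin' ((A1 ^ k).map (ZMod.castHom (dvd_refl 2) F)) =
        Matrix.toLin' (1 : Matrix (Fin 8) (Fin 8) F) := by
      rw [← h1, Matrix.toLin'_one]; rfl
    have h3 := Matrix.toLin'.injective h2
    ext i j
    apply (ZMod.castHom (dvd_refl 2) F).injective
    have h4 := congrFun (congrFun h3 i) j
    rw [Matrix.map_apply] at h4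
    rw [h4, Matrix.one_apply, Matrix.one_apply]
    split_ifs <;> simp
  have h12 : tw F ^ 12 = 1 := by
    apply LinearEquiv.toLinearMap_injective
    rw [coe_tw_pow, e12]
    have : (1 : Matrix (Fin 8) (Fin 8) (ZMod 2)).map (ZMod.castHom (dvd_refl 2) F) = 1 := by
      ext i j
      rw [Matrix.map_apply, Matrix.one_apply, Matrix.one_apply]
      split_ifs <;> simp
    rw [this, Matrix.toLin'_one]; rfl
  apply (Nat.dvd_antisymm (orderOf_dvd_of_pow_eq_one h12) _)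
  have hd := orderOf_dvd_of_pow_eq_one h12
  have n4 : ¬ orderOf (tw F) ∣ 4 := fun h => hne 4 (by rw [e4]; decide +kernel)
    (orderOf_dvd_iff_pow_eq_one.1 h)
  have n6 : ¬ orderOf (tw F) ∣ 6 := fun h => hne 6 (by rw [e6]; decide +kernel)
    (orderOf_dvd_iff_pow_eq_one.1 h)
  have hle : orderOf (tw F) ≤ 12 := Nat.le_of_dvd (by norm_num) hd
  generalize orderOf (tw F) = m at hd n4 n6 hle
  interval_cases m <;> revert hd n4 n6 <;> decide

end Cfsg.Agent.H161.Oct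
end

-- part: H161/G2Main
section
/-!
# The element orders of `G₂(q)` (helper161)
-/

set_option autoImplicit false

namespace Cfsg.Agent.H161.G2Main

open Cfsg.Lie Cfsg.Agent.H161.Oct
open Cfsg.Agent.H161.FrobComb (Exps)

variable {F : Type*} [Field F] [Fintype F]

/-- the orders of the elements of the two models agree -/
theorem range_eq : Set.range (orderOf : ↥(Cfsg.Lie.chevG2.group F) → ℕ) =
    Set.range (orderOf : ↥(Cfsg.Lie.G2 F) → ℕ) := by
  obtain ⟨e⟩ := Cfsg.Agent.H638.G2Iso.equiv (F := F)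
  ext n
  constructor
  · rintro ⟨x, rfl⟩
    exact ⟨e.symm x, MulEquiv.orderOf_eq _ _⟩
  · rintro ⟨x, rfl⟩
    exact ⟨e x, MulEquiv.orderOf_eq _ _⟩

/-- the determinant is one -/
theorem det_eq_one (hq : 3 ≤ Fintype.card F) {g : Matrix.GeneralLinearGroup (Fin 8) F}
    (hg : g ∈ Cfsg.Lie.G2 F) : (g : Matrix (Fin 8) (Fin 8) F).det = 1 := by
  obtain ⟨e⟩ := Cfsg.Agent.H638.G2Iso.equiv (F := F)
  have hex : ∃ a : F, a ≠ 0 ∧ a ≠ 1 := by
    classical
    obtain ⟨a, ha⟩ : ∃ a : F, a ∉ ({0, 1} : Finset F) := by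
      by_contra hcon
      push Not at hcon
      have h1 : Fintype.card F ≤ ({0, 1} : Finset F).card := by
        rw [← Finset.card_univ]
        exact Finset.card_le_card fun x _ => hcon x
      have h2 : ({0, 1} : Finset F).card ≤ 2 := Finset.card_le_two
      omega
    refine ⟨a, ?_, ?_⟩
    · rintro rfl; simp at ha
    · rintro rfl; simp at ha
  have hperf : commutator ↥(Cfsg.Lie.chevG2.group F) = ⊤ :=
    Cfsg.Agent.S1052.result (F := F) Cfsg.Lie.chevG2 (by simp) (fun _ => hex)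
  let ψ : ↥(Cfsg.Lie.chevG2.group F) →* Fˣ :=
    (Matrix.GeneralLinearGroup.det.comp (Cfsg.Lie.G2 F).subtype).comp e.symm.toMonoidHom
  have h1 : commutator ↥(Cfsg.Lie.chevG2.group F) ≤ ψ.ker := Abelianization.commutator_subset_ker ψ
  rw [hperf] at h1
  have h2 : ψ (e ⟨g, hg⟩) = 1 := MonoidHom.mem_ker.1 (h1 (Subgroup.mem_top _))
  have h3 : ψ (e ⟨g, hg⟩) = Matrix.GeneralLinearGroup.det ((e.symm (e ⟨g, hg⟩) : ↥(Cfsg.Lie.G2 F)) :
      Matrix.GeneralLinearGroup (Fin 8) F) := rfl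
  rw [h3, e.symm_apply_apply] at h2
  rw [← Matrix.GeneralLinearGroup.val_det_apply, h2, Units.val_one]

theorem mem_of_AutO {f : V F ≃ₗ[F] V F} (hf : f ∈ AutO F) {n : ℕ} (hn : orderOf f = n) :
    n ∈ Set.range (orderOf : ↥(Cfsg.Lie.chevG2.group F) → ℕ) := by
  rw [range_eq]
  obtain ⟨g, hg⟩ := exists_orderOf hf
  exact ⟨g, hg.trans hn⟩

/-- **All element orders** divide one of the numbers of the list. -/
theorem upper {p n : ℕ} [Fact p.Prime] (hF : Fintype.card F = p ^ n) (hq : 3 ≤ p ^ n) {m : ℕ}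
    (hm : m ∈ Set.range (orderOf : ↥(Cfsg.Lie.chevG2.group F) → ℕ)) :
    ∃ N, m ∣ N ∧ (N = p * (p ^ n + 1) ∨ N = p * (p ^ n - 1) ∨ N = p ^ (2 * n) - 1 ∨
      N = p ^ (2 * n) + p ^ n + 1 ∨ N = p ^ (2 * n) - p ^ n + 1 ∨ (p = 2 ∧ (N = 8 ∨ N = 12)) ∨
      ((p = 3 ∨ p = 5) ∧ N = p ^ 2)) := by
  rw [range_eq] at hm
  obtain ⟨g, rfl⟩ := hm
  obtain ⟨N, h1, h2⟩ := order_bound (p := p) (n := n) hF (by omega) g.2
    (det_eq_one (by rw [hF]; exact hq) g.2)
  have hog : orderOf g = orderOf (g : Matrix.GeneralLinearGroup (Fin 8) F) :=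
    (Subgroup.orderOf_coe g).symm
  rw [hog]
  have hsq : p ^ (2 * n) = (p ^ n) ^ 2 := by rw [← pow_mul, mul_comm]
  rw [hsq]
  set q := p ^ n with hqdef
  have hfac : q ^ 2 - 1 = (q - 1) * (q + 1) := by
    obtain ⟨k, hk⟩ : ∃ k, q = k + 1 := ⟨q - 1, by omega⟩
    rw [hk, Nat.add_sub_cancel]
    have : (k + 1) ^ 2 = k * (k + 1 + 1) + 1 := by ring
    omega
  rcases h2 with h2 | h2 | h2 | h2 | h2
  · rcases h2 with rfl | rfl | rfl | rfl | rfl
    · exact ⟨q ^ 2 - 1, h1.trans (by rw [hfac]; exact dvd_mul_right _ _), by simp⟩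
    · exact ⟨q ^ 2 - 1, h1.trans (by rw [hfac]; exact dvd_mul_left _ _), by simp⟩
    · exact ⟨_, h1, by simp⟩
    · exact ⟨_, h1, by simp⟩
    · exact ⟨_, h1, by simp⟩
  · exact ⟨_, h1, Or.inr (Or.inl h2)⟩
  · exact ⟨_, h1, Or.inl h2⟩
  · exact ⟨_, h1, Or.inr (Or.inr (Or.inr (Or.inr (Or.inr (Or.inl h2)))))⟩
  · exact ⟨_, h1, Or.inr (Or.inr (Or.inr (Or.inr (Or.inr (Or.inr h2)))))⟩

/-- characteristic from the order -/
theorem charP_of_card {p n : ℕ} [hp : Fact p.Prime] (hn : n ≠ 0) (hF : Fintype.card F = p ^ n) :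
    CharP F p := by
  obtain ⟨r, hr⟩ := CharP.exists F
  obtain ⟨k, hk1, hk2⟩ := FiniteField.card F r
  rw [hF] at hk2
  have : p = r := by
    have h1 : p ∣ r ^ (k : ℕ) := by rw [← hk2]; exact dvd_pow_self p hn
    exact (Nat.prime_dvd_prime_iff_eq hp.out hk1).1 (hp.out.dvd_of_dvd_pow h1)
  rw [this]; exact hr

/-- **Existence of the elements.** -/
theorem lower {p n : ℕ} [hp : Fact p.Prime] (hn : n ≠ 0) (hF : Fintype.card F = p ^ n)
    (hq : 3 ≤ p ^ n) {N : ℕ} (hN : N = p * (p ^ n + 1) ∨ N = p * (p ^ n - 1) ∨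
      N = p ^ (2 * n) - 1 ∨ N = p ^ (2 * n) + p ^ n + 1 ∨ N = p ^ (2 * n) - p ^ n + 1 ∨
      (p = 2 ∧ (N = 8 ∨ N = 12)) ∨ ((p = 3 ∨ p = 5) ∧ N = p ^ 2)) :
    N ∈ Set.range (orderOf : ↥(Cfsg.Lie.chevG2.group F) → ℕ) := by
  have hc := charP_of_card hn hF
  have hsq : p ^ (2 * n) = (p ^ n) ^ 2 := by rw [← pow_mul, mul_comm]
  rw [hsq] at hN
  rcases hN with rfl | rfl | rfl | rfl | rfl | ⟨rfl, hN⟩ | ⟨h, rfl⟩
  · obtain ⟨f, hf, ho⟩ := exists_pp (F := F) (p := p) hn hF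
    exact mem_of_AutO hf (by rw [ho, hF])
  · obtain ⟨f, hf, ho⟩ := exists_pm (F := F) (p := p) hn hF
    exact mem_of_AutO hf (by rw [ho, hF])
  · obtain ⟨f, hf, ho⟩ := exists_qq (F := F)
    exact mem_of_AutO hf (by rw [ho, hF])
  · obtain ⟨f, hf, ho⟩ := exists_nn (F := F)
    exact mem_of_AutO hf (by rw [ho, hF])
  · obtain ⟨g, hg⟩ := CoxTorus.exists_orderOf (F := F) (p ^ n) hF hq
    exact ⟨g, hg⟩
  · rcases hN with rfl | rfl
    · exact mem_of_AutO (ru_mem (F := F)) orderOf_ru_two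
    · exact mem_of_AutO (tw_mem (F := F)) orderOf_tw
  · rcases h with rfl | rfl
    · exact mem_of_AutO (ru_mem (F := F)) orderOf_ru_three
    · exact mem_of_AutO (ru_mem (F := F)) orderOf_ru_five

/-- the set of maximal elements under divisibility -/
theorem max_subset {R L : Set ℕ} (h1 : L ⊆ R) (h2 : ∀ n ∈ R, ∃ N ∈ L, n ∣ N) :
    {n : ℕ | n ∈ R ∧ ∀ m ∈ R, n ∣ m → m = n} ⊆ L := by
  rintro n ⟨hn, hmax⟩
  obtain ⟨N, hN, hd⟩ := h2 n hn
  rw [← hmax N (h1 hN) hd]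
  exact hN

theorem max_eq {R L : Set ℕ} (h1 : L ⊆ R) (h2 : ∀ n ∈ R, ∃ N ∈ L, n ∣ N)
    (h3 : ∀ x ∈ L, ∀ y ∈ L, x ∣ y → x = y) :
    {n : ℕ | n ∈ R ∧ ∀ m ∈ R, n ∣ m → m = n} = L := by
  apply Set.Subset.antisymm (max_subset h1 h2)
  intro l hl
  refine ⟨h1 hl, ?_⟩
  intro m hm hd
  obtain ⟨N, hN, hd'⟩ := h2 m hm
  have h4 := h3 l hl N hN (hd.trans hd')
  rw [← h4] at hd'
  exact Nat.dvd_antisymm hd' hd

end Cfsg.Agent.H161.G2Main
end
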