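import Cfsg.Agent.H321.SpecEven.Defs_m3
import Cfsg.Agent.H104.Closed_m3
import Cfsg.Agent.LieClassical.OrthForms
import Cfsg.Agent.LieClassical.OmegaReindex
import Cfsg.Agent.LieClassical.OrthCenter
import Cfsg.Prelude.Def_Classical
import Cfsg.Agent.ClassicalGeometry.SympInvolutions
import Cfsg.Agent.Prune
set_option linter.all false
prune_inst 0x7f00000000000000000000000000000000000000000000000000000000000000000000000000000000000000000000000000000000000000000000000000000000000000000000000000000000000000003fffffffffffffffffffffffffffbeffbdffffffff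
open scoped Cfsg.Agent.FastGrp

/-!
# Non-adjacent primes `r`, `s` with `ord_r (q) = i` odd, `ord_s (q) = 2 i` (helper161)
-/

set_option autoImplicit false
set_option linter.unusedSectionVars false

namespace Cfsg.Agent.H161.NonAdj

open Matrix Cfsg Cfsg.Agent.H403 Polynomial Function

theorem zmod_two (a : ZMod 2) : a = 0 ∨ a = 1 := by
  revert a
  decide

theorem zmod_two' : ¬ (0 : ZMod 2) = 1 := by decide

theorem order_ne_two {a : ZMod 2} {i : ℕ} (hi : 2 ≤ i) (h : orderOf a = i) : False := by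
  rcases zmod_two a with h0 | h0
  · have h16 : a ^ i = 1 := by rw [← h]; exact pow_orderOf_eq_one _
    rw [h0, zero_pow (by omega)] at h16
    exact zmod_two' h16
  · rw [h0, orderOf_one] at h
    omega

section core

variable {E : Type*} [Field E] {x : ℤ} {R : Multiset E}

theorem pow_per_mul (x : ℤ) (y : E) (t : ℕ) : y ^ (x ^ (per x y * t)) = y := by
  induction t with
  | zero => simp
  | succ t ih => rw [Nat.mul_succ, pow_add, _root_.zpow_mul, ih, pow_per]

theorem ret (h : Cl x R) {y : E} (hy : y ∈ R) (j : ℕ) : ∃ k : ℕ, (y ^ (x ^ j)) ^ (x ^ k) = y := by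
  have h8 : ∃ t, j ≤ per x y * t := ⟨j, Nat.le_mul_of_pos_left j (h.per_pos hy)⟩
  obtain ⟨t, ht⟩ := h8
  refine ⟨per x y * t - j, ?_⟩
  rw [← _root_.zpow_mul, ← pow_add, show j + (per x y * t - j) = per x y * t by omega, pow_per_mul]

theorem orb_ne (h : Cl x R) {y : E} (hy : y ∈ R) {A : ℕ} (h2 : y ^ A ≠ 1) {z : E} (hz : z ∈ orb x y) :
    z ^ A ≠ 1 := by
  obtain ⟨j, rfl⟩ := mem_orb hz
  intro h5
  apply h2
  obtain ⟨k, hk⟩ := ret h hy j
  rw [← hk, ← zpow_natCast, ← _root_.zpow_mul, mul_comm, _root_.zpow_mul, zpow_natCast, h5, _root_.one_zpow]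

theorem disj (h : Cl x R) (hinv : R.map (·⁻¹) = R) {y : E} (hy : y ∈ R) (hne : ∀ j : ℕ, y ^ (x ^ j) ≠ y⁻¹) :
    Disjoint (orb x y) (orb x y⁻¹) := by
  rw [Multiset.disjoint_left]
  intro z hz hz'
  obtain ⟨j, rfl⟩ := mem_orb hz
  obtain ⟨k, hk⟩ := mem_orb hz'
  have hy' : y⁻¹ ∈ R := by
    have := Multiset.mem_map_of_mem (·⁻¹) hy
    rwa [hinv] at this
  obtain ⟨l, hl⟩ := ret h hy' k
  apply hne (j + l)
  rw [← hl, ← hk, ← _root_.zpow_mul, ← pow_add]

theorem orb_orb_le (h : Cl x R) (hinv : R.map (·⁻¹) = R) {y : E} (hy : y ∈ R)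
    (hne : ∀ j : ℕ, y ^ (x ^ j) ≠ y⁻¹) : (orb x y + orb x y⁻¹).Nodup ∧ ∀ z ∈ orb x y + orb x y⁻¹, z ∈ R := by
  have hy' : y⁻¹ ∈ R := by
    have := Multiset.mem_map_of_mem (·⁻¹) hy
    rwa [hinv] at this
  refine ⟨?_, ?_⟩
  · rw [Multiset.nodup_add]
    exact ⟨orb_nodup x y, orb_nodup x y⁻¹, disj h hinv hy hne⟩
  · intro z hz
    rcases Multiset.mem_add.1 hz with hz | hz
    · obtain ⟨j, rfl⟩ := mem_orb hz
      exact h.mem_pow hy j
    · obtain ⟨j, rfl⟩ := mem_orb hz
      exact h.mem_pow hy' j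

theorem hne_of {r A i : ℕ} (hr : r.Prime) (hi : Odd i) (hi3 : 3 ≤ i)
    (h1 : orderOf ((x : ℤ) : ZMod r) = i) {y : E} (hA : (y ^ A) ^ r = 1) (hA' : y ^ A ≠ 1) (hy0 : y ≠ 0) (j : ℕ) :
    y ^ (x ^ j) ≠ y⁻¹ := by
  intro hcon
  have hf := Fact.mk hr
  have h2 : (y ^ A) ^ (x ^ j + 1) = 1 := by
    have h3 : (y ^ A) ^ (x ^ j) = (y ^ A)⁻¹ := by
      rw [← zpow_natCast, ← _root_.zpow_mul, mul_comm, _root_.zpow_mul, hcon, _root_.inv_zpow, zpow_natCast]
    rw [_root_.zpow_add₀ (pow_ne_zero _ hy0), h3, zpow_one, inv_mul_cancel₀ (pow_ne_zero _ hy0)]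
  have ho : orderOf (y ^ A) = r := orderOf_eq_prime hA hA'
  have h5 : (r : ℤ) ∣ x ^ j + 1 := by
    rw [← ho]
    have h6 : (Units.mk0 (y ^ A) (pow_ne_zero _ hy0)) ^ (x ^ j + 1) = 1 := by
      apply Units.ext
      simpa using h2
    have h7 := orderOf_dvd_iff_zpow_eq_one.2 h6
    rwa [← orderOf_units, Units.val_mk0] at h7
  have h6 := (ZMod.intCast_zmod_eq_zero_iff_dvd (x ^ j + 1) r).2 h5
  push_cast at h6
  have h7 : (x : ZMod r) ^ j = -1 := by linear_combination h6
  have h8 : (x : ZMod r) ^ (2 * j) = 1 := by rw [mul_comm, pow_mul, h7]; norm_num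
  have h9 : i ∣ 2 * j := by rw [← h1]; exact orderOf_dvd_of_pow_eq_one h8
  have h10 : i ∣ j := (Nat.Coprime.dvd_mul_left (Nat.coprime_two_right.2 hi)).1 h9
  have h11 : (x : ZMod r) ^ j = 1 := by rw [← h1] at h10; exact orderOf_dvd_iff_pow_eq_one.1 h10
  have h12 : (2 : ZMod r) = 0 := by
    have : (1 : ZMod r) = -1 := h11.symm.trans h7
    linear_combination this
  have h13 : r ∣ 2 := by
    have : ((2 : ℕ) : ZMod r) = 0 := by exact_mod_cast h12
    exact (ZMod.natCast_eq_zero_iff 2 r).1 this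
  have h14 : r = 2 := (Nat.prime_dvd_prime_iff_eq hr Nat.prime_two).1 h13
  subst h14
  exact order_ne_two (by omega) h1

/-- **The count.** -/
theorem core [DecidableEq E] (h : Cl x R) (hinv : R.map (·⁻¹) = R) {r s A B i : ℕ} (hr : r.Prime) (hs : s.Prime)
    (hi : Odd i) (hi3 : 3 ≤ i) (h1 : orderOf ((x : ℤ) : ZMod r) = i) (h2 : orderOf ((x : ℤ) : ZMod s) = 2 * i)
    (hA : ∀ y ∈ R, (y ^ A) ^ r = 1) (hB : ∀ y ∈ R, (y ^ B) ^ s = 1) (hA' : ∃ y ∈ R, y ^ A ≠ 1)
    (hB' : ∃ y ∈ R, y ^ B ≠ 1) (hc : Multiset.card R < 4 * i) : False := by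
  obtain ⟨y, hy, hy1⟩ := hA'
  obtain ⟨z, hz, hz1⟩ := hB'
  have hy' : y⁻¹ ∈ R := by
    have := Multiset.mem_map_of_mem (·⁻¹) hy
    rwa [hinv] at this
  have a1 : 2 * i ≤ Multiset.card (R.filter fun z => z ^ A ≠ 1) := by
    obtain ⟨hn, hm⟩ := orb_orb_le h hinv hy (hne_of hr hi hi3 h1 (hA y hy) hy1 (h.ne_zero hy))
    have h3 := Nat.le_of_dvd (h.per_pos hy) (dvd_per hr h1 (hA y hy) hy1)
    have hy1' : (y⁻¹) ^ A ≠ 1 := by rw [inv_pow]; exact fun h => hy1 (inv_eq_one.1 h)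
    have h3' := Nat.le_of_dvd (h.per_pos hy') (dvd_per hr h1 (hA _ hy') hy1')
    have h4 : Multiset.card (orb x y + orb x y⁻¹) ≤ Multiset.card (R.filter fun z => z ^ A ≠ 1) := by
      refine Multiset.card_le_card ((Multiset.le_iff_subset hn).2 fun z hz => ?_)
      refine Multiset.mem_filter.2 ⟨hm z hz, ?_⟩
      rcases Multiset.mem_add.1 hz with hz | hz
      · exact orb_ne h hy hy1 hz
      · exact orb_ne h hy' hy1' hz
    rw [Multiset.card_add, card_orb, card_orb] at h4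
    omega
  have a2 := h.le_card_filter hz hs h2 (hB z hz) hz1
  have h3 : ∃ w ∈ R, w ^ A ≠ 1 ∧ w ^ B ≠ 1 := by
    by_contra hcon
    push Not at hcon
    have h4 : R.filter (fun z => z ^ A ≠ 1) ≤ R.filter (fun z => ¬ z ^ B ≠ 1) := by
      refine Multiset.le_filter.2 ⟨Multiset.filter_le _ _, fun w hw => ?_⟩
      rw [Multiset.mem_filter] at hw
      exact not_not.2 (hcon w hw.1 hw.2)
    have h5 := Multiset.card_le_card h4
    have h6 := congrArg Multiset.card (Multiset.filter_add_not (fun z : E => z ^ B ≠ 1) R)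
    rw [Multiset.card_add] at h6
    omega
  obtain ⟨w, hw, hw1, hw2⟩ := h3
  obtain ⟨hn, hm⟩ := orb_orb_le h hinv hw (hne_of hr hi hi3 h1 (hA w hw) hw1 (h.ne_zero hw))
  have hw' : w⁻¹ ∈ R := by
    have := Multiset.mem_map_of_mem (·⁻¹) hw
    rwa [hinv] at this
  have h4 := Nat.le_of_dvd (h.per_pos hw) (dvd_per hs h2 (hB w hw) hw2)
  have h4' := Nat.le_of_dvd (h.per_pos hw') (dvd_per hs h2 (hB _ hw')
    (by rw [inv_pow]; exact fun h => hw2 (inv_eq_one.1 h)))
  have h5 : Multiset.card (orb x w + orb x w⁻¹) ≤ Multiset.card R :=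
    Multiset.card_le_card ((Multiset.le_iff_subset hn).2 hm)
  rw [Multiset.card_add, card_orb, card_orb] at h5
  omega

end core

section grp

variable {F : Type*} [Field F] [Fintype F] {ι : Type*} [Fintype ι] [DecidableEq ι]
variable {G : Type*} [Group G]

theorem natCast_ne_zero' {r i : ℕ} (hr : r.Prime) (hi : 1 ≤ i)
    (h1 : orderOf ((Fintype.card F : ℕ) : ZMod r) = i) : (r : F) ≠ 0 := by
  obtain ⟨p, hp⟩ := CharP.exists F
  obtain ⟨k, hpp, hk⟩ := FiniteField.card F p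
  intro h
  have h2 := (CharP.cast_eq_zero_iff F p r).1 h
  have h3 := (Nat.prime_dvd_prime_iff_eq hpp hr).1 h2
  have h4 : ((Fintype.card F : ℕ) : ZMod r) = 0 := by
    rw [hk, h3, Nat.cast_pow, CharP.cast_eq_zero, zero_pow k.pos.ne']
  have hf := Fact.mk hr
  have h5 := pow_orderOf_eq_one ((Fintype.card F : ℕ) : ZMod r)
  rw [h1, h4, zero_pow (by omega)] at h5
  exact zero_ne_one h5

theorem nonadj (ρ : G →* GL ι F) (hρ : Injective ρ)
    (hZ : ∀ z ∈ Subgroup.center G, ∃ l : F, (ρ z : Matrix ι ι F) = l • 1)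
    (hinv : ∀ g : G, (evs (AlgebraicClosure F) (ρ g : Matrix ι ι F)).map (·⁻¹) = evs (AlgebraicClosure F) (ρ g : Matrix ι ι F))
    {i r s : ℕ} (hr : r.Prime) (hs : s.Prime)
    (hi : Odd i) (hi3 : 3 ≤ i) (h1 : orderOf ((Fintype.card F : ℕ) : ZMod r) = i)
    (h2 : orderOf ((Fintype.card F : ℕ) : ZMod s) = 2 * i) (hd : Fintype.card ι < 4 * i) :
    ¬ ∃ g : G ⧸ Subgroup.center G, orderOf g = r * s := by
  classical
  rintro ⟨g', hg⟩
  rcases isEmpty_or_nonempty ι with he | he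
  · have h3 : Subsingleton G := ⟨fun a b => hρ (Units.ext (Subsingleton.elim _ _))⟩
    obtain ⟨g, rfl⟩ := QuotientGroup.mk_surjective g'
    have h4 : g = 1 := Subsingleton.elim _ _
    rw [h4, show (QuotientGroup.mk (1 : G) : G ⧸ Subgroup.center G) = 1 from rfl, orderOf_one] at hg
    have := Nat.eq_one_of_mul_eq_one_right hg.symm
    exact hr.one_lt.ne' this
  obtain ⟨g, rfl⟩ := QuotientGroup.mk_surjective g'
  set M : Matrix ι ι F := (ρ g : Matrix ι ι F) with hM
  set R := evs (AlgebraicClosure F) M with hR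
  have hu : IsUnit M := ⟨ρ g, rfl⟩
  have hcl : Cl ((Fintype.card F : ℕ) : ℤ) R := by
    refine ⟨?_, ?_, zero_notMem_evs _ M hu⟩
    · exact inj_xv (F := F) (E := AlgebraicClosure F) (q := Fintype.card F) (t := 0) (by rw [zero_add, pow_one]) true
    · have h := evs_frob (AlgebraicClosure F) M
      conv_rhs => rw [hR, ← h]
      refine Multiset.map_congr rfl fun y _ => ?_
      simp
  have hk : ∀ k : ℕ, (QuotientGroup.mk g : G ⧸ Subgroup.center G) ^ k = 1 → ∃ c : F, M ^ k = c • (1 : Matrix ι ι F) := by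
    intro k hk
    rw [← QuotientGroup.mk_pow, QuotientGroup.eq_one_iff] at hk
    obtain ⟨c, hc⟩ := hZ _ hk
    refine ⟨c, ?_⟩
    rw [← hc, map_pow, Units.val_pow_eq_pow_val]
  obtain ⟨ζ, hζ⟩ := hk (r * s) (by rw [← hg]; exact pow_orderOf_eq_one _)
  have hmem : ∀ y ∈ R, y ^ (r * s) = algebraMap F (AlgebraicClosure F) ζ := fun y hy => pow_of_mem_evs _ hζ hy
  have hinvR : R.map (·⁻¹) = R := hinv g
  have hinv' : ∀ y ∈ R, y⁻¹ ∈ R := by
    intro y hy
    have := Multiset.mem_map_of_mem (·⁻¹) hy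
    rwa [hinvR] at this
  have hsq : ∀ y ∈ R, y ^ (2 * (r * s)) = 1 := by
    intro y hy
    have e1 := hmem y hy
    have e2 := hmem _ (hinv' y hy)
    have h0 : y ≠ 0 := hcl.ne_zero hy
    rw [inv_pow, ← e1] at e2
    have e3 : y ^ (r * s) * y ^ (r * s) = 1 := by
      nth_rw 1 [← e2]
      exact inv_mul_cancel₀ (pow_ne_zero _ h0)
    rw [two_mul, pow_add, e3]
  obtain ⟨y₀, hy₀⟩ : ∃ y, y ∈ R := Multiset.card_pos_iff_exists_mem.1 (by rw [hR, card_evs]; exact Fintype.card_pos)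
  have hζ2 : ζ ^ 2 = 1 := by
    apply (algebraMap F (AlgebraicClosure F)).injective
    rw [map_pow, ← hmem y₀ hy₀, ← pow_mul, mul_comm, hsq y₀ hy₀, map_one]
  -- the nontriviality
  have key : ∀ {a b : ℕ}, a.Prime → b.Prime → (a : F) ≠ 0 → 3 ≤ a → a * b = r * s → ∃ y ∈ R, y ^ (2 * b) ≠ 1 := by
    intro a b ha hb ha0 ha3 hab
    by_contra hcon
    push Not at hcon
    have e1 : M ^ (2 * b) = (1 : F) • (1 : Matrix ι ι F) := by
      apply pow_eq_smul_of_coprime (AlgebraicClosure F) (k := 2 * b) (m := a) (c := 1) (ζ := 1) one_ne_zero ha0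
      · have : 2 * b * a = (r * s) * 2 := by rw [← hab]; ring
        rw [this, pow_mul, hζ, _root_.smul_pow, one_pow, hζ2]
      · intro y hy
        rw [hcon y hy, map_one]
    rw [one_smul] at e1
    have e2 : g ^ (2 * b) = 1 := by
      apply hρ
      apply Units.ext
      rw [map_pow, Units.val_pow_eq_pow_val, map_one]
      exact e1
    have e3 : (QuotientGroup.mk g : G ⧸ Subgroup.center G) ^ (2 * b) = 1 := by
      rw [← QuotientGroup.mk_pow, e2]; rfl
    have e4 := orderOf_dvd_of_pow_eq_one e3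
    rw [hg, ← hab] at e4
    have e5 : a ∣ 2 := Nat.dvd_of_mul_dvd_mul_right hb.pos e4
    have := Nat.le_of_dvd two_pos e5
    omega
  have hr3 : 3 ≤ r := by
    by_contra hlt
    have : r = 2 := by have := hr.two_le; omega
    subst this
    exact order_ne_two (by omega) h1
  have hs3 : 3 ≤ s := by
    by_contra hlt
    have : s = 2 := by have := hs.two_le; omega
    subst this
    exact order_ne_two (by omega) h2
  obtain ⟨y, hy, hy1⟩ := key hr hs (natCast_ne_zero' hr (by omega) h1) hr3 rfl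
  obtain ⟨z, hz, hz1⟩ := key hs hr (natCast_ne_zero' hs (by omega) h2) hs3 (mul_comm s r)
  refine core hcl hinvR hr hs (A := 2 * s) (B := 2 * r) hi hi3 (by exact_mod_cast h1) (by exact_mod_cast h2)
    (fun y hy => ?_) (fun y hy => ?_) ⟨y, hy, hy1⟩ ⟨z, hz, hz1⟩ (by rw [hR, card_evs]; exact hd)
  · rw [← pow_mul, show 2 * s * r = 2 * (r * s) by ring, hsq y hy]
  · rw [← pow_mul, show 2 * r * s = 2 * (r * s) by ring, hsq y hy]

theorem evs_inv_of_form {M B : Matrix ι ι F} (hu : IsUnit M) (hB : IsUnit B.det) (h : Mᵀ * B * M = B) :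
    (evs (AlgebraicClosure F) M).map (·⁻¹) = evs (AlgebraicClosure F) M := by
  have hBi : B * B⁻¹ = 1 := Matrix.mul_nonsing_inv B hB
  have hBi' : B⁻¹ * B = 1 := Matrix.nonsing_inv_mul B hB
  have hMi : M * M⁻¹ = 1 := Matrix.mul_nonsing_inv M ((Matrix.isUnit_iff_isUnit_det M).1 hu)
  have h1 : M⁻¹ = B⁻¹ * Mᵀ * B := by
    calc M⁻¹ = B⁻¹ * B * M⁻¹ := by rw [hBi', Matrix.one_mul]
      _ = B⁻¹ * (Mᵀ * B * M) * M⁻¹ := by rw [h]
      _ = B⁻¹ * (Mᵀ * B * (M * M⁻¹)) := by simp only [Matrix.mul_assoc]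
      _ = B⁻¹ * Mᵀ * B := by rw [hMi, Matrix.mul_one, Matrix.mul_assoc]
  rw [← evs_inv _ M hu, h1, evs_conj _ _ _ _ hBi', evs_transpose]

end grp

/-! ### symplectic groups -/

/-- the inclusion -/
def rS (m : ℕ) (F : Type*) [Field F] : Matrix.symplecticGroup (Fin m) F →* GL (Fin m ⊕ Fin m) F :=
  (Matrix.symplecticGroup (Fin m) F).subtype.toHomUnits

theorem coe_rS {m : ℕ} {F : Type*} [Field F] (z : Matrix.symplecticGroup (Fin m) F) :
    ((rS m F z : GL (Fin m ⊕ Fin m) F) : Matrix (Fin m ⊕ Fin m) (Fin m ⊕ Fin m) F) = z := rfl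

theorem psp_nonadj {F : Type} [Field F] [Fintype F] {m i r s : ℕ} (hr : r.Prime) (hs : s.Prime)
    (hi : Odd i) (hi3 : 3 ≤ i) (h1 : orderOf ((Fintype.card F : ℕ) : ZMod r) = i)
    (h2 : orderOf ((Fintype.card F : ℕ) : ZMod s) = 2 * i) (hd : 2 * m < 4 * i) :
    ¬ ∃ g : PSp m F, orderOf g = r * s := by
  refine nonadj (rS m F) (fun a b h => Subtype.ext (congrArg Units.val h)) (fun z hz => ?_) (fun g => ?_) hr hs hi hi3
    h1 h2 (by rw [Fintype.card_sum, Fintype.card_fin, ← two_mul]; exact hd)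
  · rw [coe_rS]
    rcases Cfsg.Agent.ClassicalGeometry.SympInvolutions.center_eq hz with h | h
    · exact ⟨1, by rw [h, one_smul]⟩
    · exact ⟨-1, by rw [h, neg_smul, one_smul]⟩
  · refine evs_inv_of_form (B := Matrix.J (Fin m) F) ⟨_, rfl⟩ (Matrix.isUnit_det_J _ _) ?_
    have := (SymplecticGroup.mem_iff'.1 g.2)
    exact this

/-! ### orthogonal groups -/

section orth

variable {F : Type} [Field F] {ι : Type} [Fintype ι] [DecidableEq ι]

/-- the inclusion -/
def rO (Q : (ι → F) → F) : Omega F Q →* GL ι F :=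
  (isometryGroup F Q).subtype.comp (Subgroup.subtype _)

theorem rO_injective (Q : (ι → F) → F) : Injective (rO Q) := fun _ _ h => Subtype.ext (Subtype.ext h)

theorem om_nonadj [Fintype F] (Q : QuadraticForm F (ι → F)) (hQ : (QuadraticMap.polarBilin Q).Nondegenerate)
    (hn : 3 ≤ Fintype.card ι) (hsing : ∃ u : ι → F, u ≠ 0 ∧ Q u = 0) {i r s : ℕ} (hr : r.Prime) (hs : s.Prime)
    (hi : Odd i) (hi3 : 3 ≤ i) (h1 : orderOf ((Fintype.card F : ℕ) : ZMod r) = i)
    (h2 : orderOf ((Fintype.card F : ℕ) : ZMod s) = 2 * i) (hd : Fintype.card ι < 4 * i) :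
    ¬ ∃ g : POmega F (⇑Q), orderOf g = r * s := by
  refine nonadj (rO (⇑Q)) (rO_injective _) (fun z hz => ?_) (fun g => ?_) hr hs hi hi3 h1 h2 hd
  · rcases (LieClassical.OrthCenter.mem_center_omega_iff hQ hn hsing z).1 hz with h | h
    · exact ⟨1, by rw [one_smul]; exact h⟩
    · exact ⟨-1, by rw [neg_smul, one_smul]; exact h⟩
  · exact evs_inv_of_form (B := H104.OrthEmb.gram Q) ⟨_, rfl⟩ (H104.OrthEmb.gram_det hQ)
      (H104.OrthEmb.gram_inv Q (g : isometryGroup F (⇑Q)))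

end orth

theorem pplus_nonadj {F : Type} [Field F] [Fintype F] {m i r s : ℕ} (hm : 4 ≤ m) (hr : r.Prime)
    (hs : s.Prime) (hi : Odd i) (hi3 : 3 ≤ i) (h1 : orderOf ((Fintype.card F : ℕ) : ZMod r) = i)
    (h2 : orderOf ((Fintype.card F : ℕ) : ZMod s) = 2 * i) (hd : 2 * m < 4 * i) :
    ¬ ∃ g : POmega F (quadFormPlus m F), orderOf g = r * s := by
  rw [← LieClassical.OrthForms.coe_plusForm m F]
  refine om_nonadj _ (LieClassical.OmegaReindex.nondegenerate_of_left _
      (fun x hx => LieClassical.OrthForms.nondeg_plusForm m F x hx)) ?_ ?_ hr hs hi hi3 h1 h2 ?_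
  · simp only [Fintype.card_sum, Fintype.card_fin]; omega
  · refine ⟨Pi.single (Sum.inl ⟨0, by omega⟩) 1, ?_, ?_⟩
    · intro h
      have := congrFun h (Sum.inl ⟨0, by omega⟩)
      simp at this
    · rw [LieClassical.OrthForms.coe_plusForm, LieClassical.OrthForms.quadFormPlus_apply]
      simp
  · simp only [Fintype.card_sum, Fintype.card_fin]; omega

theorem pminus_nonadj {F : Type} [Field F] [Fintype F] {m i r s : ℕ} (hm : 4 ≤ m) (a b : F)
    (hab : ∀ z₁ z₂ : F, z₁ ^ 2 + a * z₁ * z₂ + b * z₂ ^ 2 = 0 → z₁ = 0 ∧ z₂ = 0) (hr : r.Prime)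
    (hs : s.Prime) (hi : Odd i) (hi3 : 3 ≤ i) (h1 : orderOf ((Fintype.card F : ℕ) : ZMod r) = i)
    (h2 : orderOf ((Fintype.card F : ℕ) : ZMod s) = 2 * i) (hd : 2 * m < 4 * i) :
    ¬ ∃ g : POmega F (quadFormMinus (m - 1) F a b), orderOf g = r * s := by
  rw [← LieClassical.OrthForms.coe_minusForm (m - 1) F]
  refine om_nonadj _ (LieClassical.OmegaReindex.nondegenerate_of_left _
      (fun x hx => LieClassical.OrthForms.nondeg_minusForm (m - 1) F a b hab x hx)) ?_ ?_ hr hs hi hi3 h1 h2 ?_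
  · simp only [Fintype.card_sum, Fintype.card_fin]; omega
  · refine ⟨Pi.single (Sum.inl (Sum.inl ⟨0, by omega⟩)) 1, ?_, ?_⟩
    · intro h
      have := congrFun h (Sum.inl (Sum.inl ⟨0, by omega⟩))
      simp at this
    · rw [LieClassical.OrthForms.coe_minusForm, LieClassical.OrthForms.quadFormMinus_apply]
      simp
  · simp only [Fintype.card_sum, Fintype.card_fin]; omega

theorem podd_nonadj {F : Type} [Field F] [Fintype F] (ho : Odd (Fintype.card F)) {m i r s : ℕ} (hr : r.Prime)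
    (hs : s.Prime) (hi : Odd i) (hi3 : 3 ≤ i) (h1 : orderOf ((Fintype.card F : ℕ) : ZMod r) = i)
    (h2 : orderOf ((Fintype.card F : ℕ) : ZMod s) = 2 * i) (hd : 2 * m + 1 < 4 * i) :
    ¬ ∃ g : POmega F (quadFormOdd m F), orderOf g = r * s := by
  have h20 : (2 : F) ≠ 0 := by
    intro h
    have hc : CharP F 2 := CharTwo.of_one_ne_zero_of_two_eq_zero one_ne_zero h
    have h3 := FiniteField.even_card_of_char_two (F := F) (ringChar.eq F 2 |>.symm ▸ rfl)
    rw [Nat.odd_iff] at ho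
    omega
  rcases Nat.eq_zero_or_pos m with rfl | hm
  · rintro ⟨g', hg⟩
    have hcomm : ∀ a b : isometryGroup F (quadFormOdd 0 F), a * b = b * a := by
      intro a b
      apply Subtype.ext
      apply Units.ext
      have hU : ∀ A B : Matrix (Unit ⊕ (Fin 0 ⊕ Fin 0)) (Unit ⊕ (Fin 0 ⊕ Fin 0)) F, A * B = B * A := by
        intro A B
        ext x y
        rcases x with x | x | x
        · rcases y with y | y | y
          · rw [Matrix.mul_apply, Matrix.mul_apply]
            simp only [Fintype.sum_sum_type, Finset.univ_unique, Finset.sum_singleton, Finset.univ_eq_empty,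
              Finset.sum_empty, add_zero]
            exact mul_comm _ _
          · exact y.elim0
          · exact y.elim0
        · exact x.elim0
        · exact x.elim0
      exact hU _ _
    have h3 : Omega F (quadFormOdd 0 F) = ⊥ := by
      rw [Omega, commutator_def, Subgroup.commutator_eq_bot_iff_le_centralizer]
      intro x _
      rw [Subgroup.mem_centralizer_iff]
      intro y _
      exact hcomm y x
    obtain ⟨g, rfl⟩ := QuotientGroup.mk_surjective g'
    have h4 : g = 1 := by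
      apply Subtype.ext
      exact Subgroup.mem_bot.1 (h3 ▸ g.2)
    rw [h4, show (QuotientGroup.mk (1 : Omega F (quadFormOdd 0 F)) : POmega F (quadFormOdd 0 F)) = 1 from rfl,
      orderOf_one] at hg
    have := Nat.eq_one_of_mul_eq_one_right hg.symm
    exact hr.one_lt.ne' this
  rw [← LieClassical.OrthForms.coe_oddForm m F]
  refine om_nonadj _ (LieClassical.OmegaReindex.nondegenerate_of_left _
      (fun x hx => LieClassical.OrthForms.nondeg_oddForm m F h20 x hx)) ?_ ?_ hr hs hi hi3 h1 h2 ?_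
  · simp only [Fintype.card_sum, Fintype.card_fin, Fintype.card_unit]; omega
  · refine ⟨Pi.single (Sum.inr (Sum.inl ⟨0, by omega⟩)) 1, ?_, ?_⟩
    · intro h
      have := congrFun h (Sum.inr (Sum.inl ⟨0, by omega⟩))
      simp at this
    · rw [LieClassical.OrthForms.coe_oddForm, LieClassical.OrthForms.quadFormOdd_apply]
      simp
  · simp only [Fintype.card_sum, Fintype.card_fin, Fintype.card_unit]; omega

end Cfsg.Agent.H161.NonAdj

private theorem dce_3b1c30af6cf8 : _root_.True := by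
  try have : _root_.True := by simp only [_root_.Cfsg.Omega.eq_1]
  exact _root_.True.intro
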