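import Mathlib
import Cfsg.Agent.H376.SpEmb
import Cfsg.Agent.ClassicalGeometry.AutPSL.Main
import Cfsg.Agent.Prune
set_option linter.all false
prune_inst 0x7f00000000000000000000000000000000000000000000000000000000000000000000000000000000000000000000000000000000000000000000000000000000000000000000000000000000000000003fffffffffffffffffffffffffffbeffbdffffffff
open scoped Cfsg.Agent.FastGrp

/-!
# S3457: an almost simple group over `L_n(2)` larger than `L_n(2)` has an element of order `2 (2 ^ m + 1)`, `m = n / 2`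
-/

set_option autoImplicit false

namespace Cfsg.Agent.H161.OuterGraph

open Matrix Subgroup
open Cfsg.Agent.ClassicalGeometry.AutPSL.Root Cfsg.Agent.ClassicalGeometry.AutPSL.Auto
  Cfsg.Agent.ClassicalGeometry.AutPSL.Main

/-! ### Matrices preserving a symmetric form -/

/-- a nondegenerate symmetric form with an isometry of order `N` -/
def P (F : Type*) [Field F] (ι : Type*) [Fintype ι] [DecidableEq ι] (N : ℕ) : Prop :=
  ∃ J J' A : Matrix ι ι F, Jᵀ = J ∧ J * J' = 1 ∧ A * J * Aᵀ = J ∧ ∀ k : ℕ, A ^ k = 1 ↔ N ∣ k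

variable {F : Type*} [Field F]

theorem P.congr {ι κ : Type*} [Fintype ι] [DecidableEq ι] [Fintype κ] [DecidableEq κ] (σ : ι ≃ κ) {N : ℕ}
    (h : P F ι N) : P F κ N := by
  obtain ⟨J, J', A, h1, h2, h3, h4⟩ := h
  have hT : ∀ M : Matrix ι ι F, (Matrix.reindexAlgEquiv F F σ M)ᵀ = Matrix.reindexAlgEquiv F F σ Mᵀ := fun M => rfl
  refine ⟨Matrix.reindexAlgEquiv F F σ J, Matrix.reindexAlgEquiv F F σ J', Matrix.reindexAlgEquiv F F σ A, ?_, ?_, ?_, ?_⟩
  · rw [hT, h1]
  · rw [← map_mul, h2, map_one]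
  · rw [hT, ← map_mul, ← map_mul, h3]
  · intro k
    rw [← map_pow, ← h4 k, EmbeddingLike.map_eq_one_iff]

theorem P.one {ι : Type*} [Fintype ι] [DecidableEq ι] {N : ℕ} (h : P F ι N) : P F (ι ⊕ Fin 1) N := by
  obtain ⟨J, J', A, h1, h2, h3, h4⟩ := h
  refine ⟨fromBlocks J 0 0 1, fromBlocks J' 0 0 1, fromBlocks A 0 0 1, ?_, ?_, ?_, ?_⟩
  · rw [fromBlocks_transpose, h1]
    simp
  · rw [fromBlocks_multiply]
    simp [h2]
  · rw [fromBlocks_transpose, fromBlocks_multiply, fromBlocks_multiply]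
    simp [h3]
  · intro k
    have hpow : (fromBlocks A 0 0 1 : Matrix (ι ⊕ Fin 1) (ι ⊕ Fin 1) F) ^ k = fromBlocks (A ^ k) 0 0 1 := by
      induction k with
      | zero => rw [pow_zero, pow_zero, fromBlocks_one]
      | succ k ih =>
        rw [pow_succ, ih, fromBlocks_multiply, pow_succ]
        simp
    rw [hpow, ← h4 k]
    constructor
    · intro h
      rw [← fromBlocks_one] at h
      exact (fromBlocks_inj.1 h).1
    · intro h
      rw [h, fromBlocks_one]

theorem P.symp [Fintype F] (h2 : (2 : F) = 0) (m : ℕ) (hm : m ≠ 0) : P F (Fin m ⊕ Fin m) (Nat.card F ^ m + 1) := by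
  obtain ⟨A, hA⟩ := H376.SpEmb.exists_plus F m hm
  have hneg : ∀ M : Matrix (Fin m ⊕ Fin m) (Fin m ⊕ Fin m) F, -M = M := by
    intro M
    ext i j
    rw [Matrix.neg_apply]
    linear_combination (-M i j) * h2
  refine ⟨Matrix.J (Fin m) F, Matrix.J (Fin m) F, A, ?_, ?_, ?_, ?_⟩
  · rw [Matrix.J_transpose, hneg]
  · rw [Matrix.J_squared, hneg]
  · exact SymplecticGroup.mem_iff.1 A.2
  · intro k
    rw [← hA, orderOf_dvd_iff_pow_eq_one]
    constructor
    · intro h
      apply Subtype.ext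
      rw [SubmonoidClass.coe_pow, h]
      rfl
    · intro h
      have := congrArg Subtype.val h
      rwa [SubmonoidClass.coe_pow] at this

theorem exists_P [Fintype F] (h2 : (2 : F) = 0) {n m : ℕ} (hn : 4 ≤ n) (hm : m = n / 2) :
    P F (Fin n) (Nat.card F ^ m + 1) := by
  have h1 := P.symp h2 m (by omega)
  rcases Nat.mod_two_eq_zero_or_one n with h | h
  · refine h1.congr ?_
    exact finSumFinEquiv.trans (finCongr (by omega))
  · refine h1.one.congr ?_
    exact (Equiv.sumCongr finSumFinEquiv (Equiv.refl _)).trans (finSumFinEquiv.trans (finCongr (by omega)))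

/-! ### Automorphisms -/

variable {n : ℕ}

theorem eq_one_of_ne_zero [Fintype F] (hF : Fintype.card F = 2) {x : F} (hx : x ≠ 0) : x = 1 := by
  have h1 := FiniteField.pow_card_sub_one_eq_one x hx
  rwa [hF, pow_one] at h1

theorem lift_cj_inner [Fintype F] (hF : Fintype.card F = 2) (A : GL (Fin n) F) :
    ∃ g : ProjectiveSpecialLinearGroup (Fin n) F, lift (cj A) = MulAut.conj g := by
  have hdet : (A : Matrix (Fin n) (Fin n) F).det = 1 := by
    apply eq_one_of_ne_zero hF
    have h1 := (Matrix.GeneralLinearGroup.det A).ne_zero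
    rwa [Matrix.GeneralLinearGroup.val_det_apply] at h1
  obtain ⟨s, hs⟩ : ∃ s : Matrix.SpecialLinearGroup (Fin n) F, (s : Matrix (Fin n) (Fin n) F) = A := ⟨⟨_, hdet⟩, rfl⟩
  refine ⟨pr s, ?_⟩
  apply MulEquiv.ext
  intro x
  obtain ⟨x, rfl⟩ := pr_surjective x
  rw [lift_pr, MulAut.conj_apply, ← map_inv, ← map_mul, ← map_mul]
  congr 1
  apply Subtype.ext
  rw [coe_cj, Matrix.SpecialLinearGroup.coe_mul, Matrix.SpecialLinearGroup.coe_mul, hs]
  congr 1
  have h1 : (s : Matrix (Fin n) (Fin n) F) * ((s⁻¹ : Matrix.SpecialLinearGroup (Fin n) F) : Matrix (Fin n) (Fin n) F) = 1 := by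
    rw [← Matrix.SpecialLinearGroup.coe_mul, mul_inv_cancel, Matrix.SpecialLinearGroup.coe_one]
  rw [hs] at h1
  have h2 : ((A⁻¹ : GL (Fin n) F) : Matrix (Fin n) (Fin n) F) * A = 1 := by
    rw [← Units.val_mul, inv_mul_cancel, Units.val_one]
  calc ((A⁻¹ : GL (Fin n) F) : Matrix (Fin n) (Fin n) F)
      = ((A⁻¹ : GL (Fin n) F) : Matrix (Fin n) (Fin n) F) * ((A : Matrix (Fin n) (Fin n) F) *
        ((s⁻¹ : Matrix.SpecialLinearGroup (Fin n) F) : Matrix (Fin n) (Fin n) F)) := by rw [h1, mul_one]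
    _ = _ := by rw [← mul_assoc, h2, one_mul]

theorem pr_injective [Fintype F] (hF : Fintype.card F = 2) (hn : 4 ≤ n) :
    Function.Injective (pr : Matrix.SpecialLinearGroup (Fin n) F →* _) := by
  rw [injective_iff_map_eq_one]
  intro x hx
  rw [pr_eq_one_iff, Matrix.SpecialLinearGroup.mem_center_iff] at hx
  obtain ⟨r, hr, hrx⟩ := hx
  have hr0 : r ≠ 0 := by
    rintro rfl
    rw [Fintype.card_fin, zero_pow (by omega)] at hr
    exact zero_ne_one hr
  have hr1 := eq_one_of_ne_zero hF hr0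
  subst hr1
  apply Subtype.ext
  rw [← hrx]
  simp

theorem fld_eq_one [Fintype F] (hF : Fintype.card F = 2) (σ : F ≃+* F) : σ = 1 := by
  apply RingEquiv.ext
  intro t
  by_cases h : t = 0
  · rw [h, map_zero, map_zero]
  · rw [eq_one_of_ne_zero hF h, map_one, map_one]

/-- the square of the graph automorphism -/
theorem graph_sq (C : GL (Fin n) F) (hC : (C : Matrix (Fin n) (Fin n) F)ᵀ = C) :
    (cj C * itr) * (cj C * itr) = 1 := by
  have hCi : ((C⁻¹ : GL (Fin n) F) : Matrix (Fin n) (Fin n) F)ᵀ = ((C⁻¹ : GL (Fin n) F) : Matrix (Fin n) (Fin n) F) := by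
    have h1 : (C : Matrix (Fin n) (Fin n) F) * ((C⁻¹ : GL (Fin n) F) : Matrix (Fin n) (Fin n) F) = 1 := by
      rw [← Units.val_mul, mul_inv_cancel, Units.val_one]
    have h2 := congrArg Matrix.transpose h1
    rw [transpose_mul, hC, transpose_one] at h2
    calc ((C⁻¹ : GL (Fin n) F) : Matrix (Fin n) (Fin n) F)ᵀ
        = ((C⁻¹ : GL (Fin n) F) : Matrix (Fin n) (Fin n) F)ᵀ * ((C : Matrix (Fin n) (Fin n) F) *
          ((C⁻¹ : GL (Fin n) F) : Matrix (Fin n) (Fin n) F)) := by rw [h1, mul_one]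
      _ = _ := by rw [← mul_assoc, h2, one_mul]
  have key : ∀ y : Matrix.SpecialLinearGroup (Fin n) F, itr (cj C y) = cj C⁻¹ (itr y) := by
    intro y
    apply Subtype.ext
    rw [coe_itr, coe_cj, coe_itr, ← map_inv, coe_cj, transpose_mul, transpose_mul, hC, hCi, inv_inv, mul_assoc]
  apply MulEquiv.ext
  intro x
  rw [MulAut.mul_apply, MulAut.mul_apply, MulAut.mul_apply, key, MulAut.one_apply]
  have h2 : itr (itr x) = x := by
    rw [← MulAut.mul_apply, itr_mul_itr, MulAut.one_apply]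
  rw [h2, ← MulAut.mul_apply, ← map_mul, mul_inv_cancel, map_one, MulAut.one_apply]

/-- the graph automorphism fixes the isometries of the form -/
theorem graph_fix (C : GL (Fin n) F) (g : Matrix.SpecialLinearGroup (Fin n) F)
    (hg : (g : Matrix (Fin n) (Fin n) F) * C * (g : Matrix (Fin n) (Fin n) F)ᵀ = C) : cj C (itr g) = g := by
  apply Subtype.ext
  rw [coe_cj, coe_itr]
  have h1 : (g : Matrix (Fin n) (Fin n) F)ᵀ * ((g⁻¹ : Matrix.SpecialLinearGroup (Fin n) F) : Matrix (Fin n) (Fin n) F)ᵀ = 1 := by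
    rw [← transpose_mul, ← Matrix.SpecialLinearGroup.coe_mul, inv_mul_cancel, Matrix.SpecialLinearGroup.coe_one,
      transpose_one]
  have h2 : (C : Matrix (Fin n) (Fin n) F) * ((g⁻¹ : Matrix.SpecialLinearGroup (Fin n) F) : Matrix (Fin n) (Fin n) F)ᵀ =
      (g : Matrix (Fin n) (Fin n) F) * C := by
    conv_lhs => rw [← hg]
    rw [mul_assoc, h1, mul_one]
  rw [h2, mul_assoc, ← Units.val_mul, mul_inv_cancel, Units.val_one, mul_one]

/-! ### The main theorem -/

theorem outer_graph {F : Type*} [Field F] [Fintype F] (hF : Fintype.card F = 2) {n m : ℕ} (hn : 4 ≤ n) (hm : m = n / 2)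
    {X : Type*} [Group X] [Finite X] (S : Subgroup X) [S.Normal] (hC : Subgroup.centralizer (S : Set X) = ⊥)
    (e : ↥S ≃* Matrix.ProjectiveSpecialLinearGroup (Fin n) F) (hne : S ≠ ⊤) : ∃ x : X, orderOf x = 2 * (2 ^ m + 1) := by
  classical
  have h20 : (2 : F) = 0 := by
    have h1 : ((Fintype.card F : ℕ) : F) = 0 := FiniteField.cast_card_eq_zero F
    rw [hF] at h1
    exact_mod_cast h1
  -- the action
  obtain ⟨Ψ, hΨ⟩ : ∃ Ψ : X →* MulAut (ProjectiveSpecialLinearGroup (Fin n) F),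
      Ψ = (MulAut.congr e).toMonoidHom.comp (MulAut.conjNormal (H := S)) := ⟨_, rfl⟩
  have hinj : Function.Injective Ψ := by
    rw [injective_iff_map_eq_one]
    intro x hx
    rw [hΨ] at hx
    have h1 : (MulAut.conjNormal x : MulAut S) = 1 := (MulAut.congr e).injective (by
      rw [map_one]
      exact hx)
    have h2 : x ∈ centralizer (S : Set X) := by
      rw [mem_centralizer_iff]
      intro s hs
      have h3 := congrArg (fun f : MulAut S => ((f ⟨s, hs⟩ : S) : X)) h1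
      simp only [MulAut.conjNormal_apply, MulAut.one_apply] at h3
      rw [mul_inv_eq_iff_eq_mul] at h3
      exact h3.symm
    rwa [hC, mem_bot] at h2
  have hinner : ∀ g : ProjectiveSpecialLinearGroup (Fin n) F, Ψ (e.symm g : X) = MulAut.conj g := by
    intro g
    apply MulEquiv.ext
    intro y
    obtain ⟨y, rfl⟩ := e.surjective y
    have h1 : Ψ (e.symm g : X) (e y) = e (MulAut.conjNormal (e.symm g : X) y) := by
      rw [hΨ]
      change e (MulAut.conjNormal (e.symm g : X) (e.symm (e y))) = _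
      rw [e.symm_apply_apply]
    rw [h1, MulAut.conj_apply]
    have h2 : (MulAut.conjNormal (e.symm g : X) y : S) = e.symm g * y * (e.symm g)⁻¹ := by
      apply Subtype.ext
      rw [MulAut.conjNormal_apply]
      rfl
    rw [h2, map_mul, map_mul, map_inv, e.apply_symm_apply]
  have hS : ∀ x : X, (∃ g, Ψ x = MulAut.conj g) → x ∈ S := by
    rintro x ⟨g, hg⟩
    have h1 : x = (e.symm g : X) := hinj (by rw [hg, hinner])
    rw [h1]
    exact (e.symm g).2
  -- the form
  obtain ⟨J, J', A, hJ, hJJ, hA, hord⟩ := exists_P (F := F) h20 hn hm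
  rw [Nat.card_eq_fintype_card, hF] at hord
  obtain ⟨C, hCJ⟩ : ∃ C : GL (Fin n) F, (C : Matrix (Fin n) (Fin n) F) = J :=
    ⟨⟨J, J', hJJ, mul_eq_one_comm.1 hJJ⟩, rfl⟩
  obtain ⟨α, hα⟩ : ∃ α : MulAut (ProjectiveSpecialLinearGroup (Fin n) F), α = lift (cj C * itr) := ⟨_, rfl⟩
  -- the graph automorphism is in the image
  obtain ⟨x, hx⟩ : ∃ x : X, x ∉ S := by
    by_contra hcon
    push Not at hcon
    exact hne (eq_top_iff.2 fun x _ => hcon x)
  obtain ⟨τ, hτ⟩ : ∃ τ : X, Ψ τ = α := by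
    obtain ⟨p, hp⟩ := CharP.exists F
    have hpf : Fact p.Prime := ⟨CharP.char_is_prime F p⟩
    rcases surj_three p (by omega : 3 ≤ n) (Ψ x) with ⟨B, σ, hB⟩ | ⟨B, σ, hB⟩
    · exfalso
      rw [fld_eq_one hF σ, map_one, mul_one] at hB
      obtain ⟨g, hg⟩ := lift_cj_inner hF B
      exact hx (hS x ⟨g, by rw [hB, hg]⟩)
    · rw [fld_eq_one hF σ, map_one, mul_one] at hB
      obtain ⟨g, hg⟩ := lift_cj_inner hF (C * B⁻¹)
      refine ⟨(e.symm g : X) * x, ?_⟩
      rw [map_mul, hinner, ← hg, hB, hα, ← map_mul, ← mul_assoc, ← map_mul cj, inv_mul_cancel_right]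
  have hτ2 : τ * τ = 1 := by
    apply hinj
    rw [map_mul, hτ, hα, ← map_mul, graph_sq C (by rw [hCJ, hJ]), map_one, map_one]
  have hτ1 : τ ≠ 1 := by
    rintro rfl
    rw [map_one] at hτ
    refine not_graph (ι := Fin n) (by rw [Fintype.card_fin]; omega) (C := C) (σ := (1 : F ≃+* F)) (τ := (1 : F ≃+* F)) ?_
    rw [map_one, mul_one, ← hα, ← hτ, map_one]
  have hτo : orderOf τ = 2 := orderOf_eq_prime (by rw [pow_two, hτ2]) hτ1
  -- the isometry
  have hN : A ^ (2 ^ m + 1) = 1 := (hord _).2 dvd_rfl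
  have hdet : A.det = 1 := by
    apply eq_one_of_ne_zero hF
    intro h0
    have h1 := congrArg Matrix.det hN
    rw [det_pow, h0, zero_pow (Nat.succ_ne_zero _), det_one] at h1
    exact zero_ne_one h1
  obtain ⟨g, hg⟩ : ∃ g : Matrix.SpecialLinearGroup (Fin n) F, (g : Matrix (Fin n) (Fin n) F) = A := ⟨⟨_, hdet⟩, rfl⟩
  have hgo : orderOf g = 2 ^ m + 1 := by
    apply Nat.dvd_antisymm
    · rw [orderOf_dvd_iff_pow_eq_one]
      apply Subtype.ext
      rw [Matrix.SpecialLinearGroup.coe_pow, hg, hN, Matrix.SpecialLinearGroup.coe_one]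
    · rw [← hord, ← hg, ← Matrix.SpecialLinearGroup.coe_pow, pow_orderOf_eq_one, Matrix.SpecialLinearGroup.coe_one]
  obtain ⟨y, hy⟩ : ∃ y : X, y = (e.symm (pr g) : X) := ⟨_, rfl⟩
  have hyo : orderOf y = 2 ^ m + 1 := by
    rw [hy, Subgroup.orderOf_coe, ← hgo, ← orderOf_injective pr (pr_injective hF hn) g]
    exact MulEquiv.orderOf_eq e.symm _
  have hcomm : Commute τ y := by
    have h1 : Ψ (τ * y * τ⁻¹) = Ψ y := by
      have h2 : α (pr g) = pr g := by
        rw [hα, lift_pr, MulAut.mul_apply, graph_fix C g (by rw [hg, hCJ, hA])]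
      rw [map_mul, map_mul, map_inv, hy, hinner, hτ]
      apply MulEquiv.ext
      intro z
      rw [MulAut.mul_apply, MulAut.mul_apply, MulAut.conj_apply, map_mul, map_mul, map_inv, h2, MulAut.conj_apply]
      have h3 : α (α⁻¹ z) = z := α.apply_symm_apply z
      rw [h3]
    have h2 := hinj h1
    rw [mul_inv_eq_iff_eq_mul] at h2
    exact h2
  refine ⟨τ * y, ?_⟩
  have hcop : Nat.Coprime (orderOf τ) (orderOf y) := by
    rw [hτo, hyo, Nat.coprime_two_left]
    have hm2 : m ≠ 0 := by omega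
    exact ((Nat.even_pow.2 ⟨even_two, hm2⟩)).add_one
  rw [hcomm.orderOf_mul_eq_mul_orderOf_of_coprime hcop, hτo, hyo]

end Cfsg.Agent.H161.OuterGraph
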